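import Mathlib

/-!
Trace identities for `SL₂` over a field and conjugation to companion form.
Owner: helper27.
-/

set_option autoImplicit false

namespace Cfsg.Agent.Lib.PslSolubilizer

variable {F : Type*} [Field F]

/-- The trace of an element of `SL₂`. -/
def tr2 (g : Matrix.SpecialLinearGroup (Fin 2) F) : F := g 0 0 + g 1 1

/-- `tr [x,y] - 2` as a polynomial in the three traces. -/
def disc (a b c : F) : F := a ^ 2 + b ^ 2 + c ^ 2 - a * b * c - 4

/-- The companion matrix with trace `a`. -/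
def comp2 (a : F) : Matrix.SpecialLinearGroup (Fin 2) F :=
  ⟨!![0, -1; 1, a], by simp [Matrix.det_fin_two]⟩

theorem tr2_comp2 (a : F) : tr2 (comp2 a) = a := by simp [tr2, comp2]

theorem det2 (g : Matrix.SpecialLinearGroup (Fin 2) F) : g 0 0 * g 1 1 - g 0 1 * g 1 0 = 1 := by
  have h := g.2
  rwa [Matrix.det_fin_two] at h

theorem cayley (g : Matrix.SpecialLinearGroup (Fin 2) F) :
    (g : Matrix (Fin 2) (Fin 2) F) * g = tr2 g • (g : Matrix (Fin 2) (Fin 2) F) - 1 := by
  have h := det2 g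
  ext i j
  fin_cases i <;> fin_cases j <;>
    simp [Matrix.mul_apply, Fin.sum_univ_two, tr2] <;>
      first | linear_combination -h | ring

theorem tr2_inv (g : Matrix.SpecialLinearGroup (Fin 2) F) : tr2 g⁻¹ = tr2 g := by
  simp [tr2, Matrix.SpecialLinearGroup.coe_inv, Matrix.adjugate_fin_two]; ring

theorem tr2_mul_comm (g h : Matrix.SpecialLinearGroup (Fin 2) F) : tr2 (g * h) = tr2 (h * g) := by
  simp [tr2, Matrix.mul_apply, Fin.sum_univ_two]; ring

theorem tr2_conj (g h : Matrix.SpecialLinearGroup (Fin 2) F) : tr2 (g * h * g⁻¹) = tr2 h := by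
  rw [tr2_mul_comm, ← mul_assoc, inv_mul_cancel, one_mul]

theorem tr2_one : tr2 (1 : Matrix.SpecialLinearGroup (Fin 2) F) = 2 := by
  simp [tr2]; norm_num

theorem tr2_neg (g : Matrix.SpecialLinearGroup (Fin 2) F) : tr2 (-g) = -tr2 g := by
  simp [tr2]; ring

theorem tr2_mul_left_square (x y : Matrix.SpecialLinearGroup (Fin 2) F) :
    tr2 (x * (x * y)) = tr2 x * tr2 (x * y) - tr2 y := by
  have h := det2 x
  simp [tr2, Matrix.mul_apply, Fin.sum_univ_two]
  linear_combination -(y 0 0 + y 1 1) * h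

theorem det_bracket (x y : Matrix.SpecialLinearGroup (Fin 2) F) :
    ((x : Matrix (Fin 2) (Fin 2) F) * y - (y : Matrix (Fin 2) (Fin 2) F) * x).det =
      -disc (tr2 x) (tr2 y) (tr2 (x * y)) := by
  have hx := det2 x
  have hy := det2 y
  simp [disc, tr2, Matrix.det_fin_two, Matrix.mul_apply, Fin.sum_univ_two]
  linear_combination
    (-(y 0 0 + y 1 1) ^ 2 + 4 * (y 0 0 * y 1 1 - y 0 1 * y 1 0)) * hx
      + (-(x 0 0 + x 1 1) ^ 2 + 4) * hy

/-- A non-scalar element is conjugate in `GL₂` to a companion matrix. -/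
theorem exists_conj_comp2 {x : Matrix.SpecialLinearGroup (Fin 2) F}
    (hx : x ≠ 1) (hx' : x ≠ -1) :
    ∃ φ : Matrix.SpecialLinearGroup (Fin 2) F ≃* Matrix.SpecialLinearGroup (Fin 2) F,
      φ x = comp2 (tr2 x) ∧ ∀ g, tr2 (φ g) = tr2 g := by
  obtain ⟨p, q, hd⟩ : ∃ p q : F,
      p * (x 1 0 * p + x 1 1 * q) - q * (x 0 0 * p + x 0 1 * q) ≠ 0 := by
    by_contra hcon
    push Not at hcon
    have h1 := hcon 1 0
    have h2 := hcon 0 1
    have h3 := hcon 1 1
    simp at h1 h2
    simp [h1, h2] at h3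
    have h4 : x 0 0 = x 1 1 := by linear_combination -h3
    have hd := det2 x
    rw [h1, h2, ← h4] at hd
    have h5 : (x 0 0 - 1) * (x 0 0 + 1) = 0 := by linear_combination hd
    rcases mul_eq_zero.1 h5 with h | h
    · apply hx
      ext i j
      fin_cases i <;> fin_cases j <;> simp [h1, h2, ← h4] <;> linear_combination h
    · apply hx'
      ext i j
      fin_cases i <;> fin_cases j <;> simp [h1, h2, ← h4] <;> linear_combination h
  let m : Matrix (Fin 2) (Fin 2) F :=
    !![p, x 0 0 * p + x 0 1 * q; q, x 1 0 * p + x 1 1 * q]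
  have hm : IsUnit m.det := by
    rw [isUnit_iff_ne_zero]
    simp [m, Matrix.det_fin_two]
    intro h
    apply hd
    linear_combination h
  have hm1 : m⁻¹ * m = 1 := Matrix.nonsing_inv_mul m hm
  have hm2 : m * m⁻¹ = 1 := Matrix.mul_nonsing_inv m hm
  have hdet : m⁻¹.det * m.det = 1 := by rw [← Matrix.det_mul, hm1, Matrix.det_one]
  let φ : Matrix.SpecialLinearGroup (Fin 2) F ≃* Matrix.SpecialLinearGroup (Fin 2) F :=
    { toFun := fun g => ⟨m⁻¹ * g * m, by
        rw [Matrix.det_mul, Matrix.det_mul, g.2, mul_one]; exact hdet⟩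
      invFun := fun g => ⟨m * g * m⁻¹, by
        rw [Matrix.det_mul, Matrix.det_mul, g.2, mul_one, mul_comm]; exact hdet⟩
      left_inv := fun g => Subtype.ext (by
        simp [← Matrix.mul_assoc, hm2, Matrix.mul_assoc _ m m⁻¹])
      right_inv := fun g => Subtype.ext (by
        simp [← Matrix.mul_assoc, hm1, Matrix.mul_assoc _ m⁻¹ m])
      map_mul' := fun g h => Subtype.ext (by
        simp only [Matrix.SpecialLinearGroup.coe_mul]
        calc m⁻¹ * ((g : Matrix (Fin 2) (Fin 2) F) * h) * m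
            = m⁻¹ * g * (m * m⁻¹) * h * m := by rw [hm2]; noncomm_ring
          _ = m⁻¹ * g * m * (m⁻¹ * h * m) := by noncomm_ring) }
  refine ⟨φ, ?_, ?_⟩
  · apply Subtype.ext
    show m⁻¹ * (x : Matrix (Fin 2) (Fin 2) F) * m = !![0, -1; 1, tr2 x]
    rw [Matrix.mul_assoc]
    have h : (x : Matrix (Fin 2) (Fin 2) F) * m = m * !![0, -1; 1, tr2 x] := by
      have hd := det2 x
      ext i j
      fin_cases i <;> fin_cases j <;>
        simp [m, Matrix.mul_apply, Fin.sum_univ_two, tr2]
      · linear_combination -p * hd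
      · linear_combination -q * hd
    rw [h, ← Matrix.mul_assoc, hm1, Matrix.one_mul]
  · intro g
    have h1 : ∀ k : Matrix.SpecialLinearGroup (Fin 2) F,
        tr2 k = (k : Matrix (Fin 2) (Fin 2) F).trace := fun k => (Matrix.trace_fin_two _).symm
    rw [h1, h1]
    show (m⁻¹ * (g : Matrix (Fin 2) (Fin 2) F) * m).trace = _
    rw [Matrix.trace_mul_comm, ← Matrix.mul_assoc, hm2, Matrix.one_mul]

end Cfsg.Agent.Lib.PslSolubilizer
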