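import Cfsg.Agent.Lib.PslSolubilizer.Basic

/-!
Counting elements `y` of `SL₂(q)` with prescribed traces of `y` and `C y`, `C` a companion matrix.
Owner: helper27.
-/

set_option autoImplicit false

namespace Cfsg.Agent.Lib.PslSolubilizer

variable {F : Type*} [Field F]

/-- The norm form `u² - a u v + v²`. -/
def nrm (a u v : F) : F := u ^ 2 - a * u * v + v ^ 2

/-- The number of representations by the norm form. -/
noncomputable def reps (a d : F) : ℕ := Nat.card {w : F × F // nrm a w.1 w.2 = d}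

theorem tr2_comp2_mul (a : F) (y : Matrix.SpecialLinearGroup (Fin 2) F) :
    tr2 (comp2 a * y) = y 0 1 - y 1 0 + a * y 1 1 := by
  rw [tr2, Matrix.SpecialLinearGroup.coe_mul]
  simp [comp2, Matrix.mul_apply, Fin.sum_univ_two]
  ring

/-- Elements `y` are parametrised by `(tr y, tr (C y))` and a point of a conic. -/
def paramEquiv (a : F) (P : F → F → Prop) :
    {y : Matrix.SpecialLinearGroup (Fin 2) F // P (tr2 y) (tr2 (comp2 a * y))} ≃
    (Σ bc : {bc : F × F // P bc.1 bc.2}, {w : F × F //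
      nrm a w.1 w.2 - bc.1.1 * w.1 + bc.1.2 * w.2 + 1 = 0}) where
  toFun y := ⟨⟨(tr2 y.1, tr2 (comp2 a * y.1)), y.2⟩, ⟨(y.1 1 1, y.1 1 0), by
    have h := det2 y.1
    simp only [nrm, tr2_comp2_mul]
    simp only [tr2]
    linear_combination -h⟩⟩
  invFun s := ⟨⟨!![s.1.1.1 - s.2.1.1, s.1.1.2 + s.2.1.2 - a * s.2.1.1; s.2.1.2, s.2.1.1], by
    have h := s.2.2
    simp [nrm, Matrix.det_fin_two] at h ⊢
    linear_combination -h⟩, by
    convert s.1.2 using 1
    · simp [tr2]
    · refine (tr2_comp2_mul a _).trans ?_; simp; ring⟩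
  left_inv y := by
    apply Subtype.ext
    apply Subtype.ext
    ext i j
    fin_cases i <;> fin_cases j <;>
      (simp only [tr2_comp2_mul]; simp [tr2]) <;> ring
  right_inv s := by
    obtain ⟨⟨⟨b, c⟩, hP⟩, ⟨⟨u, v⟩, hw⟩⟩ := s
    refine Sigma.subtype_ext (Subtype.ext ?_) ?_
    · simp only [Prod.mk.injEq]
      refine ⟨?_, ?_⟩
      · simp [tr2]
      · refine (tr2_comp2_mul a _).trans ?_; simp; ring
    · simp

/-- For `a² ≠ 4` the fibre is a level set of the norm form. -/
def centreEquiv {a : F} (ha : 4 - a ^ 2 ≠ 0) (b c : F) :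
    {w : F × F // nrm a w.1 w.2 - b * w.1 + c * w.2 + 1 = 0} ≃
    {w : F × F // nrm a w.1 w.2 = disc a b c / (4 - a ^ 2)} where
  toFun w := ⟨(w.1.1 - (2 * b - a * c) / (4 - a ^ 2), w.1.2 - (a * b - 2 * c) / (4 - a ^ 2)), by
    have h := w.2
    simp only [nrm, disc] at h ⊢
    field_simp
    linear_combination (4 - a ^ 2) ^ 2 * h⟩
  invFun w := ⟨(w.1.1 + (2 * b - a * c) / (4 - a ^ 2), w.1.2 + (a * b - 2 * c) / (4 - a ^ 2)), by
    have h := w.2
    simp only [nrm, disc] at h ⊢
    field_simp at h ⊢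
    linear_combination (4 - a ^ 2) * h⟩
  left_inv w := by simp
  right_inv w := by simp

variable [Fintype F]

theorem card_fibred {a : F} (ha : 4 - a ^ 2 ≠ 0) (P : F → F → Prop) :
    Nat.card {y : Matrix.SpecialLinearGroup (Fin 2) F // P (tr2 y) (tr2 (comp2 a * y))} =
      ∑ᶠ bc : {bc : F × F // P bc.1 bc.2}, reps a (disc a bc.1.1 bc.1.2 / (4 - a ^ 2)) := by
  classical
  rw [Nat.card_congr (paramEquiv a P), Nat.card_sigma, finsum_eq_sum_of_fintype]
  exact Finset.sum_congr rfl fun bc _ => Nat.card_congr (centreEquiv ha bc.1.1 bc.1.2)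

theorem card_disc_zero (a : F) :
    Nat.card {bc : F × F // disc a bc.1 bc.2 = 0} = reps a (4 - a ^ 2) := by
  refine Nat.card_congr (Equiv.subtypeEquivRight fun bc => ?_)
  unfold disc nrm
  constructor <;> intro h <;> linear_combination h

/-- If the norm form has constant multiplicity `L` off zero, the count is affine in the sizes. -/
theorem card_of_levels {a : F} (ha : 4 - a ^ 2 ≠ 0) (P : F → F → Prop)
    (L L0 : ℕ) (hL : ∀ d : F, d ≠ 0 → reps a d = L) (hL0 : reps a 0 = L0) :
    (Nat.card {y : Matrix.SpecialLinearGroup (Fin 2) F // P (tr2 y) (tr2 (comp2 a * y))} : ℤ) =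
      L * Nat.card {bc : F × F // P bc.1 bc.2} +
        ((L0 : ℤ) - L) * Nat.card {bc : F × F // P bc.1 bc.2 ∧ disc a bc.1 bc.2 = 0} := by
  classical
  rw [card_fibred ha, finsum_eq_sum_of_fintype]
  push_cast
  have key : ∀ bc : {bc : F × F // P bc.1 bc.2},
      (reps a (disc a bc.1.1 bc.1.2 / (4 - a ^ 2)) : ℤ) =
        L + ((L0 : ℤ) - L) * if disc a bc.1.1 bc.1.2 = 0 then 1 else 0 := by
    intro bc
    split_ifs with h
    · rw [h, zero_div, hL0]; ring
    · rw [hL _ (div_ne_zero h ha)]; ring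
  rw [Finset.sum_congr rfl fun bc _ => key bc, Finset.sum_add_distrib, ← Finset.mul_sum,
    Finset.sum_boole, Finset.sum_const, Finset.card_univ, ← Nat.card_eq_fintype_card,
    nsmul_eq_mul]
  have h2 : Nat.card {bc : F × F // P bc.1 bc.2 ∧ disc a bc.1 bc.2 = 0} =
      (Finset.univ.filter fun bc : {bc : F × F // P bc.1 bc.2} => disc a bc.1.1 bc.1.2 = 0).card := by
    rw [← Fintype.card_subtype, ← Nat.card_eq_fintype_card]
    exact Nat.card_congr (Equiv.subtypeSubtypeEquivSubtypeInter _ _).symm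
  rw [h2]
  ring

theorem card_centraliser_pairs (a : F) :
    Nat.card {w : F × F // w.1 ^ 2 + a * w.1 * w.2 + w.2 ^ 2 = 1} = reps a 1 :=
  Nat.card_congr
    { toFun := fun w => ⟨(w.1.1, -w.1.2), by have := w.2; simp [nrm]; linear_combination this⟩
      invFun := fun w => ⟨(w.1.1, -w.1.2), by have := w.2; simp [nrm] at this; linear_combination this⟩
      left_inv := fun w => by simp
      right_inv := fun w => by simp }

/-! ### the split form -/

theorem nrm_split {a t : F} (ht : t ^ 2 - a * t + 1 = 0) (u v : F) :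
    nrm a u v = (u - t * v) * (u - (a - t) * v) := by
  unfold nrm
  linear_combination v ^ 2 * ht

noncomputable def splitEquiv {a t : F} (ht : t ^ 2 - a * t + 1 = 0) (h2 : 2 * t - a ≠ 0) (d : F) :
    {w : F × F // nrm a w.1 w.2 = d} ≃ {w : F × F // w.1 * w.2 = d} where
  toFun w := ⟨(w.1.1 - t * w.1.2, w.1.1 - (a - t) * w.1.2), by
    rw [← nrm_split ht]; exact w.2⟩
  invFun w := ⟨(w.1.1 + t * ((w.1.2 - w.1.1) / (2 * t - a)), (w.1.2 - w.1.1) / (2 * t - a)), by
    rw [nrm_split ht]
    conv_rhs => rw [← w.2]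
    have hmul : (2 * t - a) * (2 * t - a)⁻¹ = 1 := mul_inv_cancel₀ h2
    simp only [div_eq_mul_inv]
    congr 1
    · ring
    · linear_combination (w.1.2 - w.1.1) * hmul⟩
  left_inv w := by
    obtain ⟨⟨u, v⟩, h⟩ := w
    have e : (u - (a - t) * v - (u - t * v)) / (2 * t - a) = v := by
      rw [div_eq_iff h2]; ring
    apply Subtype.ext
    simp only [e, Prod.mk.injEq, and_true]
    ring
  right_inv w := by
    obtain ⟨⟨u, v⟩, h⟩ := w
    apply Subtype.ext
    have hmul : (2 * t - a) * (2 * t - a)⁻¹ = 1 := mul_inv_cancel₀ h2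
    simp only [div_eq_mul_inv, Prod.mk.injEq]
    refine ⟨by ring, ?_⟩
    linear_combination (v - u) * hmul

theorem reps_split {a t : F} (ht : t ^ 2 - a * t + 1 = 0) (ha : 4 - a ^ 2 ≠ 0) :
    (∀ d : F, d ≠ 0 → reps a d = Fintype.card F - 1) ∧ reps a 0 = 2 * Fintype.card F - 1 := by
  classical
  have h2 : 2 * t - a ≠ 0 := by
    intro h
    apply ha
    linear_combination 4 * ht - (2 * t - a) * h
  refine ⟨fun d hd => ?_, ?_⟩
  · unfold reps
    rw [Nat.card_congr (splitEquiv ht h2 d)]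
    have e : {w : F × F // w.1 * w.2 = d} ≃ {u : F // u ≠ 0} :=
      { toFun := fun w => ⟨w.1.1, fun h => hd (by rw [← w.2, h, zero_mul])⟩
        invFun := fun u => ⟨(u.1, d / u.1), by field_simp [u.2]⟩
        left_inv := fun w => by
          obtain ⟨⟨u, v⟩, h⟩ := w
          have hu : u ≠ 0 := fun h' => hd (by rw [← h]; simp [h'])
          apply Subtype.ext
          simp only [Prod.mk.injEq, true_and]
          rw [← h]; field_simp
        right_inv := fun u => rfl }
    rw [Nat.card_congr e, Nat.card_eq_fintype_card, Fintype.card_subtype_compl]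
    simp
  · unfold reps
    rw [Nat.card_congr (splitEquiv ht h2 0)]
    rw [Nat.card_congr (Equiv.subtypeEquivRight fun w : F × F => mul_eq_zero)]
    rw [Nat.card_eq_fintype_card, Fintype.card_subtype, Finset.filter_or,
      Finset.card_union]
    have e1 : (Finset.univ.filter fun w : F × F => w.1 = 0) = {0} ×ˢ Finset.univ := by ext ⟨u, v⟩; simp [eq_comm]
    have e2 : (Finset.univ.filter fun w : F × F => w.2 = 0) = Finset.univ ×ˢ {0} := by ext ⟨u, v⟩; simp [eq_comm]
    rw [e1, e2, Finset.product_inter_product]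
    simp
    omega

/-! ### the anisotropic form -/

theorem nrm_eq_zero_iff {a : F} (hns : ∀ t : F, t ^ 2 - a * t + 1 ≠ 0) (u v : F) :
    nrm a u v = 0 ↔ u = 0 ∧ v = 0 := by
  refine ⟨fun h => ?_, fun ⟨h1, h2⟩ => by simp [nrm, h1, h2]⟩
  by_cases hv : v = 0
  · subst hv; simp [nrm] at h; exact ⟨h, rfl⟩
  · exfalso
    apply hns (u / v)
    unfold nrm at h
    field_simp
    linear_combination h

theorem exists_nrm_eq (a : F) {d : F} (hsq : (2 : F) = 0 → IsSquare d) (ha : 4 - a ^ 2 ≠ 0) :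
    ∃ u v, nrm a u v = d := by
  by_cases h2 : (2 : F) = 0
  · obtain ⟨u, hu⟩ := hsq h2
    exact ⟨u, 0, by simp [nrm, hu]; ring⟩
  · have hchar : ringChar F ≠ 2 := by
      intro h
      apply h2
      have := ringChar.spec F 2
      rw [h] at this
      exact_mod_cast (this.2 dvd_rfl)
    have hk : 1 - a ^ 2 / 4 ≠ 0 := by
      intro h
      apply ha
      have h4 : (4 : F) ≠ 0 := by
        have : (4 : F) = 2 * 2 := by norm_num
        rw [this]; exact mul_ne_zero h2 h2
      field_simp at h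
      linear_combination h
    obtain ⟨u, v, huv⟩ := FiniteField.exists_root_sum_quadratic
      (f := Polynomial.X ^ 2 - Polynomial.C d) (g := Polynomial.C (1 - a ^ 2 / 4) * Polynomial.X ^ 2)
      (Polynomial.degree_X_pow_sub_C (by norm_num) d) (Polynomial.degree_C_mul_X_pow 2 hk)
      (FiniteField.odd_card_of_char_ne_two hchar)
    simp at huv
    refine ⟨u + a * v / 2, v, ?_⟩
    have h4 : (4 : F) = 2 * 2 := by norm_num
    rw [h4] at huv
    unfold nrm
    field_simp at huv ⊢
    linear_combination huv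

/-- Multiplication by a fixed element of norm `d`. -/
noncomputable def mulEquivReps {a : F} {u₀ v₀ d : F} (hd : d ≠ 0) (h : nrm a u₀ v₀ = d) :
    {w : F × F // nrm a w.1 w.2 = 1} ≃ {w : F × F // nrm a w.1 w.2 = d} where
  toFun w := ⟨(u₀ * w.1.1 - v₀ * w.1.2, u₀ * w.1.2 + v₀ * w.1.1 - a * v₀ * w.1.2), by
    have h' := w.2
    simp only [nrm] at h h' ⊢
    linear_combination (u₀ ^ 2 - a * u₀ * v₀ + v₀ ^ 2) * h' + h⟩
  invFun w := ⟨(((u₀ - a * v₀) * w.1.1 + v₀ * w.1.2) / d, (-v₀ * w.1.1 + u₀ * w.1.2) / d), by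
    have h' := w.2
    simp only [nrm] at h h' ⊢
    field_simp
    linear_combination (u₀ ^ 2 - a * u₀ * v₀ + v₀ ^ 2) * h' + d * h⟩
  left_inv w := by
    obtain ⟨⟨u, v⟩, hw⟩ := w
    simp only [nrm] at h
    apply Subtype.ext
    simp only [Prod.mk.injEq]
    constructor <;> field_simp
    · linear_combination u * h
    · linear_combination v * h
  right_inv w := by
    obtain ⟨⟨u, v⟩, hw⟩ := w
    simp only [nrm] at h
    apply Subtype.ext
    simp only [Prod.mk.injEq]
    constructor <;> field_simp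
    · linear_combination u * h
    · linear_combination v * h

theorem reps_nonsplit {a : F} (hns : ∀ t : F, t ^ 2 - a * t + 1 ≠ 0) (ha : 4 - a ^ 2 ≠ 0) :
    (∀ d : F, d ≠ 0 → reps a d = Fintype.card F + 1) ∧ reps a 0 = 1 := by
  classical
  have h0 : reps a 0 = 1 := by
    unfold reps
    rw [Nat.card_eq_one_iff_exists]
    refine ⟨⟨(0, 0), by simp [nrm]⟩, fun ⟨⟨u, v⟩, h⟩ => ?_⟩
    obtain ⟨hu, hv⟩ := (nrm_eq_zero_iff hns u v).1 h
    simp [hu, hv]
  have hconst : ∀ d : F, d ≠ 0 → reps a d = reps a 1 := by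
    intro d hd
    obtain ⟨u, v, h⟩ := exists_nrm_eq a (d := d) (fun h2 => by
      refine FiniteField.isSquare_of_char_two ?_ d
      have : ringChar F ∣ 2 := (ringChar.spec F 2).1 (by exact_mod_cast h2)
      rcases (Nat.dvd_prime Nat.prime_two).1 this with h | h
      · exact absurd h (CharP.ringChar_ne_one)
      · exact h) ha
    exact (Nat.card_congr (mulEquivReps hd h)).symm
  have htot : ∑ d : F, reps a d = Fintype.card F * Fintype.card F := by
    unfold reps
    rw [← Nat.card_sigma, Nat.card_congr (Equiv.sigmaFiberEquiv fun w : F × F => nrm a w.1 w.2)]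
    simp [Nat.card_eq_fintype_card]
  rw [← Finset.add_sum_erase _ _ (Finset.mem_univ (0 : F)), h0,
    Finset.sum_congr rfl (fun d hd => hconst d (Finset.ne_of_mem_erase hd))] at htot
  simp at htot
  have hq : 1 < Fintype.card F := Fintype.one_lt_card
  obtain ⟨k, hk⟩ : ∃ k, Fintype.card F = k + 2 := ⟨Fintype.card F - 2, by omega⟩
  rw [hk] at htot ⊢
  refine ⟨fun d hd => ?_, h0⟩
  rw [hconst d hd]
  have h1 : (k + 1) * reps a 1 = (k + 1) * (k + 3) := by
    have : k + 2 - 1 = k + 1 := by omega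
    rw [this] at htot
    nlinarith [htot]
  have := Nat.eq_of_mul_eq_mul_left (by omega) h1
  omega

/-! ### the degenerate form `a = 2` -/

theorem card_two (P : F → F → Prop) :
    Nat.card {y : Matrix.SpecialLinearGroup (Fin 2) F // P (tr2 y) (tr2 (comp2 2 * y))} =
      Fintype.card F * Nat.card {bc : F × F // P bc.1 bc.2 ∧ bc.1 ≠ bc.2} +
      Fintype.card F * Nat.card {u : F // u ≠ 0 ∧ P (u + u⁻¹) (u + u⁻¹)} := by
  classical
  have e : {y : Matrix.SpecialLinearGroup (Fin 2) F // P (tr2 y) (tr2 (comp2 2 * y))} ≃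
      ({bc : F × F // P bc.1 bc.2 ∧ bc.1 ≠ bc.2} × F) ⊕
      ({u : F // u ≠ 0 ∧ P (u + u⁻¹) (u + u⁻¹)} × F) :=
    (paramEquiv 2 P).trans
    { toFun := fun s => if h : s.1.1.1 = s.1.1.2 then
          Sum.inr (⟨s.2.1.1 - s.2.1.2, by
            obtain ⟨⟨⟨b, c⟩, hP⟩, ⟨⟨d, g⟩, hw⟩⟩ := s
            simp only [nrm] at h hw ⊢
            subst h
            have h1 : (d - g) * (b - (d - g)) = 1 := by linear_combination -hw
            have h0 : d - g ≠ 0 := left_ne_zero_of_mul_eq_one h1
            refine ⟨h0, ?_⟩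
            have : d - g + (d - g)⁻¹ = b := by
              rw [inv_eq_of_mul_eq_one_right h1]; ring
            simpa [this] using hP⟩, s.2.1.2)
        else Sum.inl (⟨s.1.1, s.1.2, h⟩, s.2.1.1 - s.2.1.2)
      invFun := fun z => match z with
        | Sum.inl (⟨(b, c), hbc⟩, u) =>
          ⟨⟨(b, c), hbc.1⟩, ⟨((u ^ 2 - b * u + 1) / (b - c) + u, (u ^ 2 - b * u + 1) / (b - c)), by
            have : b - c ≠ 0 := sub_ne_zero.2 hbc.2
            simp [nrm]; field_simp; ring⟩⟩
        | Sum.inr (⟨u, hu⟩, g) =>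
          ⟨⟨(u + u⁻¹, u + u⁻¹), hu.2⟩, ⟨(u + g, g), by
            have := hu.1
            simp [nrm]; field_simp; ring⟩⟩
      left_inv := fun s => by
        obtain ⟨⟨⟨b, c⟩, hP⟩, ⟨⟨d, g⟩, hw⟩⟩ := s
        simp only [nrm] at hw
        by_cases h : b = c
        · subst h
          simp only [dite_true]
          have h1 : (d - g) * (b - (d - g)) = 1 := by linear_combination -hw
          refine Sigma.subtype_ext (Subtype.ext ?_) ?_
          · simp [inv_eq_of_mul_eq_one_right h1]
          · simp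
        · simp only [h, dite_false]
          have hbc : b - c ≠ 0 := sub_ne_zero.2 h
          refine Sigma.subtype_ext rfl ?_
          simp only [Prod.mk.injEq]
          have e : ((d - g) ^ 2 - b * (d - g) + 1) / (b - c) = g := by
            field_simp; linear_combination hw
          exact ⟨by rw [e]; ring, e⟩
      right_inv := fun z => by
        rcases z with ⟨⟨⟨b, c⟩, hbc⟩, u⟩ | ⟨⟨u, hu⟩, g⟩
        · simp [hbc.2]
        · simp }
  rw [Nat.card_congr e, Nat.card_sum, Nat.card_prod, Nat.card_prod, Nat.card_eq_fintype_card (α := F)]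
  ring

end Cfsg.Agent.Lib.PslSolubilizer
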