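import Cfsg.Agent.Lib.PslSolubilizer.Basic
import Cfsg.Agent.Lib.Induced.Burnside

/-!
When do two elements of `SL₂` generate a soluble group?  A criterion on the three traces.
Owner: helper27.
-/

set_option autoImplicit false

namespace Cfsg.Agent.Lib.PslSolubilizer

variable {F : Type*} [Field F]

local notation "S" => Matrix.SpecialLinearGroup (Fin 2) F
local notation "M" => Matrix (Fin 2) (Fin 2) F

/-! ### sufficient conditions -/

theorem isSolvable_of_inverts {G : Type*} [Group G] {x y : G} (h : y * x * y⁻¹ = x⁻¹) :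
    Group.IsSolvable (Subgroup.closure ({x, y} : Set G)) := by
  set H := Subgroup.closure ({x, y} : Set G) with hH
  have hn : H ≤ Subgroup.normalizer (Subgroup.zpowers x : Set G) := by
    rw [hH, Subgroup.closure_le]
    have hy : ∀ n, (n ∈ Subgroup.zpowers x ↔ y * n * y⁻¹ ∈ Subgroup.zpowers x) := by
      intro n
      refine ⟨fun ⟨k, hk⟩ => ⟨-k, ?_⟩, fun ⟨k, hk⟩ => ⟨-k, ?_⟩⟩
      · subst hk
        show x ^ (-k) = y * x ^ k * y⁻¹
        rw [← conj_zpow, h, inv_zpow, zpow_neg]
      · show x ^ (-k) = n
        have h1 : n = y⁻¹ * x ^ k * y := by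
          rw [show x ^ k = y * n * y⁻¹ from hk]; group
        have h2 : y⁻¹ * x * y = x⁻¹ := by
          have := congrArg (fun z => y⁻¹ * z⁻¹ * y) h
          simp only [mul_inv_rev, inv_inv] at this
          rw [← this]; group
        have h3 : (y⁻¹ * x * y⁻¹⁻¹) ^ k = y⁻¹ * x ^ k * y⁻¹⁻¹ := conj_zpow
        rw [inv_inv, h2, inv_zpow] at h3
        rw [h1, ← h3, zpow_neg]
    rintro z (rfl | rfl)
    · exact Subgroup.le_normalizer (Subgroup.mem_zpowers z)
    · exact Subgroup.mem_normalizer_iff.2 hy
  have hxH : x ∈ H := Subgroup.subset_closure (Set.mem_insert _ _)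
  let N : Subgroup H := (Subgroup.zpowers x).subgroupOf H
  haveI : N.Normal := Subgroup.normal_subgroupOf_iff_le_normalizer
    ((Subgroup.zpowers_le).2 hxH) |>.2 hn
  have hq : ∀ z : H, (QuotientGroup.mk' N z) ∈
      Subgroup.zpowers (QuotientGroup.mk' N ⟨y, Subgroup.subset_closure (by simp)⟩) := by
    rintro ⟨z, hz⟩
    induction hz using Subgroup.closure_induction with
    | mem w hw =>
      rcases hw with rfl | rfl
      · have : QuotientGroup.mk' N ⟨w, hxH⟩ = 1 :=
          (QuotientGroup.eq_one_iff _).2 (Subgroup.mem_subgroupOf.2 (Subgroup.mem_zpowers w))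
        rw [this]; exact one_mem _
      · exact Subgroup.mem_zpowers _
    | one => exact one_mem _
    | mul a b ha hb iha ihb =>
      rw [show (⟨a * b, mul_mem ha hb⟩ : H) = ⟨a, ha⟩ * ⟨b, hb⟩ from rfl, map_mul]
      exact mul_mem iha ihb
    | inv a ha iha =>
      rw [show (⟨a⁻¹, inv_mem ha⟩ : H) = ⟨a, ha⟩⁻¹ from rfl, map_inv]
      exact inv_mem iha
  have hcomm : ∀ u v : H ⧸ N, u * v = v * u := by
    intro u v
    obtain ⟨u, rfl⟩ := QuotientGroup.mk'_surjective N u
    obtain ⟨v, rfl⟩ := QuotientGroup.mk'_surjective N v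
    obtain ⟨i, hi⟩ := hq u
    obtain ⟨j, hj⟩ := hq v
    rw [← hi, ← hj]
    exact zpow_mul_comm _ i j
  haveI : Group.IsSolvable (H ⧸ N) := Group.isSolvable_of_comm hcomm
  haveI : Group.IsSolvable N := Group.isSolvable_of_comm (fun a b => by
    obtain ⟨i, hi⟩ := Subgroup.mem_subgroupOf.1 a.2
    obtain ⟨j, hj⟩ := Subgroup.mem_subgroupOf.1 b.2
    apply Subtype.ext; apply Subtype.ext
    show (a.1.1 : G) * b.1.1 = b.1.1 * a.1.1
    rw [← hi, ← hj]; exact zpow_mul_comm _ i j)
  exact Group.isSolvable_of_ker_le_range N.subtype (QuotientGroup.mk' N) (by simp)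

theorem sq_eq_neg_one {x : S} (h : tr2 x = 0) : x * x = -1 := by
  apply Subtype.ext
  have := cayley x
  rw [h, zero_smul, zero_sub] at this
  simpa using this

theorem isSolvable_of_two_zero {x y : S} (hy : tr2 y = 0) (hc : tr2 (x * y) = 0) :
    Group.IsSolvable (Subgroup.closure ({x, y} : Set S)) := by
  apply isSolvable_of_inverts
  have h1 := sq_eq_neg_one hy
  have h2 := sq_eq_neg_one hc
  rw [eq_inv_iff_mul_eq_one]
  have h3 : y⁻¹ = -y := inv_eq_of_mul_eq_one_right (by rw [mul_neg, h1, neg_neg])
  have h4 : (y * x) * (y * x) = -1 := sq_eq_neg_one (by rw [tr2_mul_comm]; exact hc)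
  rw [h3, mul_neg, neg_mul, mul_assoc (y * x) y x, h4, neg_neg]

theorem isSolvable_of_two_zero' {x y : S} (hx : tr2 x = 0) (hy : tr2 y = 0) :
    Group.IsSolvable (Subgroup.closure ({x, y} : Set S)) := by
  have h : Subgroup.closure ({x * y, y} : Set S) = Subgroup.closure ({x, y} : Set S) := by
    apply le_antisymm <;> rw [Subgroup.closure_le] <;> rintro z (rfl | rfl)
    · exact mul_mem (Subgroup.subset_closure (by simp)) (Subgroup.subset_closure (by simp))
    · exact Subgroup.subset_closure (by simp)
    · have h1 := mul_mem (Subgroup.subset_closure (show z * y ∈ ({z * y, y} : Set S) by simp))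
        (inv_mem (Subgroup.subset_closure (show y ∈ ({z * y, y} : Set S) by simp)))
      rwa [mul_inv_cancel_right] at h1
    · exact Subgroup.subset_closure (by simp)
  rw [← h]
  refine isSolvable_of_two_zero hy ?_
  rw [mul_assoc, sq_eq_neg_one hy, mul_neg, mul_one, tr2_neg, hx, neg_zero]

theorem isSolvable_of_two_zero'' {x y : S} (hx : tr2 x = 0) (hc : tr2 (x * y) = 0) :
    Group.IsSolvable (Subgroup.closure ({x, y} : Set S)) := by
  have h : Subgroup.closure ({x, x * y} : Set S) = Subgroup.closure ({x, y} : Set S) := by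
    apply le_antisymm <;> rw [Subgroup.closure_le] <;> rintro z (rfl | rfl)
    · exact Subgroup.subset_closure (by simp)
    · exact mul_mem (Subgroup.subset_closure (by simp)) (Subgroup.subset_closure (by simp))
    · exact Subgroup.subset_closure (by simp)
    · have h1 := mul_mem (inv_mem (Subgroup.subset_closure (show x ∈ ({x, x * z} : Set S) by simp)))
        (Subgroup.subset_closure (show x * z ∈ ({x, x * z} : Set S) by simp))
      rwa [inv_mul_cancel_left] at h1
  rw [← h]
  exact isSolvable_of_two_zero' hx hc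

theorem det_pair_eq_zero {z : M} (hz : z ≠ 0) {u v : Fin 2 → F}
    (hu : z.mulVec u = 0) (hv : z.mulVec v = 0) : u 0 * v 1 - u 1 * v 0 = 0 := by
  by_contra hd
  apply hz
  ext i j
  have h1 := congrFun hu i
  have h2 := congrFun hv i
  simp [Matrix.mulVec, dotProduct, Fin.sum_univ_two] at h1 h2
  have e0 : z i 0 * (u 0 * v 1 - u 1 * v 0) = 0 := by linear_combination v 1 * h1 - u 1 * h2
  have e1 : z i 1 * (u 0 * v 1 - u 1 * v 0) = 0 := by linear_combination u 0 * h2 - v 0 * h1
  fin_cases j
  · simpa using (mul_eq_zero.1 e0).resolve_right hd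
  · simpa using (mul_eq_zero.1 e1).resolve_right hd

theorem smul_of_det_pair {u v : Fin 2 → F} (hv : v ≠ 0) (h : u 0 * v 1 - u 1 * v 0 = 0) :
    ∃ l : F, u = l • v := by
  by_cases h0 : v 0 = 0
  · have h1 : v 1 ≠ 0 := by
      intro h1; apply hv; funext i; fin_cases i <;> simpa
    refine ⟨u 1 / v 1, ?_⟩
    have : u 0 = 0 := by simpa [h0, h1] using h
    funext i; fin_cases i <;> simp [h0, this, h1]
  · refine ⟨u 0 / v 0, ?_⟩
    funext i; fin_cases i
    · simp [h0]
    · simp; field_simp; linear_combination -h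

/-- The stabiliser of the line through `v`. -/
def lineStab (v : Fin 2 → F) : Subgroup S where
  carrier := {g | ∃ l : F, l ≠ 0 ∧ (g : M).mulVec v = l • v}
  one_mem' := ⟨1, one_ne_zero, by simp⟩
  mul_mem' := by
    rintro g h ⟨l, hl, e⟩ ⟨m, hm, e'⟩
    refine ⟨m * l, mul_ne_zero hm hl, ?_⟩
    rw [Matrix.SpecialLinearGroup.coe_mul, ← Matrix.mulVec_mulVec, e', Matrix.mulVec_smul, e,
      smul_smul]
  inv_mem' := by
    rintro g ⟨l, hl, e⟩
    refine ⟨l⁻¹, inv_ne_zero hl, ?_⟩
    have h1 : ((g⁻¹ : S) : M).mulVec ((g : M).mulVec v) = v := by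
      rw [Matrix.mulVec_mulVec, ← Matrix.SpecialLinearGroup.coe_mul, inv_mul_cancel]; simp
    rw [e, Matrix.mulVec_smul] at h1
    conv_rhs => rw [← h1]
    rw [smul_smul, inv_mul_cancel₀ hl, one_smul]

theorem isSolvable_lineStab {v : Fin 2 → F} (hv : v ≠ 0) : Group.IsSolvable (lineStab v) := by
  classical
  have huniq : ∀ {l m : F}, l • v = m • v → l = m := fun {l m} h => smul_left_injective F hv h
  let f : lineStab v →* Fˣ :=
    { toFun := fun g => Units.mk0 g.2.choose g.2.choose_spec.1
      map_one' := Units.ext (huniq (by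
        rw [Units.val_mk0, ← (1 : lineStab v).2.choose_spec.2]; simp))
      map_mul' := fun g h => Units.ext (huniq (by
        rw [Units.val_mul, Units.val_mk0, Units.val_mk0, Units.val_mk0]
        have e0 := (g * h).2.choose_spec.2
        have e1 := g.2.choose_spec.2
        have e2 := h.2.choose_spec.2
        have e : (((g * h : lineStab v) : S) : M).mulVec v =
            ((g : S) : M).mulVec (((h : S) : M).mulVec v) :=
          (Matrix.mulVec_mulVec v ((g : S) : M) ((h : S) : M)).symm
        refine e0.symm.trans (e.trans ?_)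
        refine (congrArg (fun w => ((g : S) : M).mulVec w) e2).trans ?_
        refine (Matrix.mulVec_smul _ _ _).trans ?_
        refine (congrArg (fun w => h.2.choose • w) e1).trans ?_
        exact (smul_smul _ _ _).trans (congrArg (· • v) (mul_comm _ _)))) }
  have hfix : ∀ g : f.ker, (((g : lineStab v) : S) : M).mulVec v = v := by
    intro g
    have h : (f (g : lineStab v) : F) = 1 := by rw [MonoidHom.mem_ker.1 g.2]; rfl
    refine (g : lineStab v).2.choose_spec.2.trans ?_
    exact (congrArg (fun t : F => t • v) h).trans (one_smul F v)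
  haveI : Group.IsSolvable f.ker := Group.isSolvable_of_comm (fun g h => by
    apply Subtype.ext; apply Subtype.ext; apply Subtype.ext
    show ((g : lineStab v) : S).1 * ((h : lineStab v) : S).1 = _
    have hg := hfix g
    have hh := hfix h
    have dg := det2 ((g : lineStab v) : S)
    have dh := det2 ((h : lineStab v) : S)
    set A : M := ((g : lineStab v) : S).1 with hA
    set B : M := ((h : lineStab v) : S).1 with hB
    show A * B = B * A
    change A 0 0 * A 1 1 - A 0 1 * A 1 0 = 1 at dg
    change B 0 0 * B 1 1 - B 0 1 * B 1 0 = 1 at dh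
    have g0 := congrFun hg 0
    have g1 := congrFun hg 1
    have h0 := congrFun hh 0
    have h1 := congrFun hh 1
    simp [Matrix.mulVec, dotProduct, Fin.sum_univ_two] at g0 g1 h0 h1
    have hz : (A * B - B * A).mulVec v = 0 := by
      rw [Matrix.sub_mulVec, ← Matrix.mulVec_mulVec, ← Matrix.mulVec_mulVec, hh, hg, hh, sub_self]
    have hz0 := congrFun hz 0
    have hz1 := congrFun hz 1
    simp [Matrix.mulVec, dotProduct, Fin.sum_univ_two, Matrix.mul_apply] at hz0 hz1
    by_cases hv0 : v 0 = 0
    · have hv1 : v 1 ≠ 0 := by intro e; apply hv; funext i; fin_cases i <;> simpa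
      simp [hv0] at g0 g1 h0 h1
      have a01 : A 0 1 = 0 := by simpa [hv1] using g0
      have b01 : B 0 1 = 0 := by simpa [hv1] using h0
      have a11 : A 1 1 = 1 := by simpa [hv1] using g1
      have b11 : B 1 1 = 1 := by simpa [hv1] using h1
      simp [a01, a11] at dg
      simp [b01, b11] at dh
      ext i j
      fin_cases i <;> fin_cases j <;> simp [Matrix.mul_apply, Fin.sum_univ_two, a01, b01, a11, b11, dg, dh, add_comm]
    · obtain ⟨r, hr⟩ : ∃ r, v 1 = r * v 0 := ⟨v 1 / v 0, by field_simp⟩
      rw [hr] at g0 g1 h0 h1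
      have a00 : A 0 0 = 1 - r * A 0 1 := mul_right_cancel₀ hv0 (by linear_combination g0)
      have a10 : A 1 0 = r - r * A 1 1 := mul_right_cancel₀ hv0 (by linear_combination g1)
      have b00 : B 0 0 = 1 - r * B 0 1 := mul_right_cancel₀ hv0 (by linear_combination h0)
      have b10 : B 1 0 = r - r * B 1 1 := mul_right_cancel₀ hv0 (by linear_combination h1)
      have a11 : A 1 1 = 1 + r * A 0 1 := by rw [a00, a10] at dg; linear_combination dg
      have b11 : B 1 1 = 1 + r * B 0 1 := by rw [b00, b10] at dh; linear_combination dh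
      rw [a11] at a10; rw [b11] at b10
      ext i j
      fin_cases i <;> fin_cases j <;>
        simp [Matrix.mul_apply, Fin.sum_univ_two, a00, a10, a11, b00, b10, b11] <;> ring)
  exact Group.isSolvable_of_ker_le_range f.ker.subtype f (by simp)

theorem mem_lineStab_of_mulVec {g : S} {v : Fin 2 → F} (hv : v ≠ 0) {l : F}
    (h : (g : M).mulVec v = l • v) : g ∈ lineStab v := by
  refine ⟨l, fun hl => hv ?_, h⟩
  rw [hl, zero_smul] at h
  have h1 : ((g⁻¹ : S) : M).mulVec ((g : M).mulVec v) = v := by
    rw [Matrix.mulVec_mulVec, ← Matrix.SpecialLinearGroup.coe_mul, inv_mul_cancel]; simp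
  rw [h, Matrix.mulVec_zero] at h1
  exact h1.symm

theorem disc_eq_zero_of_commute {x y : S} (h : x * y = y * x) :
    disc (tr2 x) (tr2 y) (tr2 (x * y)) = 0 := by
  rw [← neg_eq_zero, ← det_bracket, ← Matrix.SpecialLinearGroup.coe_mul,
    ← Matrix.SpecialLinearGroup.coe_mul, h, sub_self]
  simp

theorem isSolvable_of_disc {x y : S} (h : disc (tr2 x) (tr2 y) (tr2 (x * y)) = 0) :
    Group.IsSolvable (Subgroup.closure ({x, y} : Set S)) := by
  classical
  set z : M := (x : M) * y - (y : M) * x with hz
  have hdet : z.det = 0 := by rw [hz, det_bracket, h, neg_zero]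
  by_cases hz0 : z = 0
  · have hc : x * y = y * x := Subtype.ext (by simpa [hz, sub_eq_zero] using hz0)
    refine isSolvable_of_comm' ?_
    exact hc
  obtain ⟨v, hv, hvz⟩ := Matrix.exists_mulVec_eq_zero_iff.2 hdet
  have hline : ∀ g : S, z * (g : M) = (tr2 g • 1 - (g : M)) * z → g ∈ lineStab v := by
    intro g hg
    have h1 : z.mulVec ((g : M).mulVec v) = 0 := by
      rw [Matrix.mulVec_mulVec, hg, ← Matrix.mulVec_mulVec, hvz, Matrix.mulVec_zero]
    obtain ⟨l, hl⟩ := smul_of_det_pair hv (det_pair_eq_zero hz0 h1 hvz)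
    exact mem_lineStab_of_mulVec hv hl
  have hle : Subgroup.closure ({x, y} : Set S) ≤ lineStab v := by
    rw [Subgroup.closure_le]
    rintro g (rfl | rfl)
    · apply hline
      have e := cayley g
      calc z * (g : M) = (g : M) * y * g - y * ((g : M) * g) := by rw [hz]; noncomm_ring
        _ = (g : M) * y * g - y * (tr2 g • (g : M) - 1) := by rw [e]
        _ = (tr2 g • (g : M) - 1) * 1 * y - ((g : M) * g) * y + (g : M) * y * g
              - y * (tr2 g • (g : M) - 1) := by rw [e]; noncomm_ring
        _ = (tr2 g • 1 - (g : M)) * z := by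
          rw [hz]
          simp only [sub_mul, mul_sub, smul_mul_assoc, mul_smul_comm, one_mul, mul_one, smul_sub]
          noncomm_ring
    · apply hline
      have e := cayley g
      calc z * (g : M) = (x : M) * ((g : M) * g) - (g : M) * x * g := by rw [hz]; noncomm_ring
        _ = (x : M) * (tr2 g • (g : M) - 1) - (g : M) * x * g
            + (((g : M) * g) * x - (tr2 g • (g : M) - 1) * x) := by rw [e]; noncomm_ring
        _ = (tr2 g • 1 - (g : M)) * z := by
          rw [hz]
          simp only [sub_mul, mul_sub, smul_mul_assoc, mul_smul_comm, one_mul, mul_one, smul_sub]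
          noncomm_ring
  haveI := isSolvable_lineStab hv
  exact Group.isSolvable_of_isSolvable_injective (Subgroup.inclusion_injective hle)
where
  isSolvable_of_comm' {x y : S} (hc : x * y = y * x) :
      Group.IsSolvable (Subgroup.closure ({x, y} : Set S)) := by
    refine Group.isSolvable_of_comm (fun a b => Subtype.ext ?_)
    have hle : ∀ u ∈ ({x, y} : Set S), ∀ w ∈ ({x, y} : Set S), u * w = w * u := by
      rintro u (rfl | rfl) w (rfl | rfl) <;> first | rfl | exact hc | exact hc.symm
    exact congrArg Subtype.val ((Subgroup.isMulCommutative_closure hle).is_comm.comm a b)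

end Cfsg.Agent.Lib.PslSolubilizer
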