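import Cfsg.Agent.Lib.PslSolubilizer.Criterion

/-!
Necessary conditions on the traces for two elements of `SL₂` to generate a soluble group.
Owner: helper27.
-/

set_option autoImplicit false

namespace Cfsg.Agent.Lib.PslSolubilizer

variable {F : Type*} [Field F]

local notation "S" => Matrix.SpecialLinearGroup (Fin 2) F
local notation "M" => Matrix (Fin 2) (Fin 2) F

theorem exists_eq_add_of_commute {a c : S} (ha : a ≠ 1) (ha' : a ≠ -1) (h : a * c = c * a) :
    ∃ u v : F, (c : M) = u • (1 : M) + v • (a : M) := by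
  have hm : (a : M) * c = c * a := congrArg Subtype.val h
  have h00 := congrFun (congrFun hm 0) 0
  have h01 := congrFun (congrFun hm 0) 1
  have h10 := congrFun (congrFun hm 1) 0
  simp [Matrix.mul_apply, Fin.sum_univ_two] at h00 h01 h10
  by_cases e1 : a 0 1 = 0
  · by_cases e2 : a 1 0 = 0
    · have e3 : a 0 0 - a 1 1 ≠ 0 := by
        intro e
        have e' : a 0 0 = a 1 1 := sub_eq_zero.1 e
        have hd := det2 a
        rw [e1, e2, ← e'] at hd
        have h5 : (a 0 0 - 1) * (a 0 0 + 1) = 0 := by linear_combination hd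
        rcases mul_eq_zero.1 h5 with h | h
        · apply ha
          ext i j
          fin_cases i <;> fin_cases j <;> simp [e1, e2, ← e'] <;> linear_combination h
        · apply ha'
          ext i j
          fin_cases i <;> fin_cases j <;> simp [e1, e2, ← e'] <;> linear_combination h
      simp [e1, e2] at h01 h10
      have c01 : c 0 1 * (a 0 0 - a 1 1) = 0 := by linear_combination h01
      have c10 : c 1 0 * (a 0 0 - a 1 1) = 0 := by linear_combination -h10
      have c01' := (mul_eq_zero.1 c01).resolve_right e3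
      have c10' := (mul_eq_zero.1 c10).resolve_right e3
      refine ⟨c 0 0 - (c 0 0 - c 1 1) / (a 0 0 - a 1 1) * a 0 0,
        (c 0 0 - c 1 1) / (a 0 0 - a 1 1), ?_⟩
      ext i j
      fin_cases i <;> fin_cases j <;> simp [e1, e2, c01', c10']
      field_simp
      ring
    · refine ⟨c 0 0 - c 1 0 / a 1 0 * a 0 0, c 1 0 / a 1 0, ?_⟩
      ext i j
      fin_cases i <;> fin_cases j <;> simp [e1, e2]
      · simp [e1, e2] at h00
        exact (mul_eq_zero.1 (show c 0 1 * a 1 0 = 0 by linear_combination -h00)).resolve_right e2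
      · field_simp
        linear_combination -h10
  · refine ⟨c 0 0 - c 0 1 / a 0 1 * a 0 0, c 0 1 / a 0 1, ?_⟩
    ext i j
    fin_cases i <;> fin_cases j <;> simp [e1]
    · field_simp
      linear_combination h00
    · field_simp
      linear_combination h01

theorem commute_of_eq_add {a c d : S} {u v u' v' : F} (hc : (c : M) = u • (1 : M) + v • (a : M))
    (hd : (d : M) = u' • (1 : M) + v' • (a : M)) : c * d = d * c := by
  apply Subtype.ext
  simp only [Matrix.SpecialLinearGroup.coe_mul, hc, hd]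
  simp only [add_mul, mul_add, smul_mul_assoc, mul_smul_comm, one_mul, mul_one, smul_smul,
    mul_comm u u', mul_comm u v', mul_comm v u', mul_comm v v']
  module

theorem commute_of_centralised {a c d : S} (ha : a ≠ 1) (ha' : a ≠ -1) (hc : a * c = c * a)
    (hd : a * d = d * a) : c * d = d * c := by
  obtain ⟨u, v, h1⟩ := exists_eq_add_of_commute ha ha' hc
  obtain ⟨u', v', h2⟩ := exists_eq_add_of_commute ha ha' hd
  exact commute_of_eq_add h1 h2

theorem rel_of_eq_add {a c : S} {u v : F} (h : (c : M) = u • (1 : M) + v • (a : M)) :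
    2 * u + v * tr2 a = tr2 c ∧ u ^ 2 + u * v * tr2 a + v ^ 2 = 1 := by
  have hd := det2 c
  have hda := det2 a
  have e : ∀ i j, c i j = (u • (1 : M) + v • (a : M)) i j := fun i j => congrFun (congrFun h i) j
  simp [e] at hd
  constructor
  · simp [tr2, e]; ring
  · simp [tr2]
    linear_combination hd - v ^ 2 * hda

theorem coe_inv2 (a : S) : ((a⁻¹ : S) : M) = tr2 a • (1 : M) - (a : M) := by
  ext i j
  fin_cases i <;> fin_cases j <;>
    simp [Matrix.SpecialLinearGroup.coe_inv, Matrix.adjugate_fin_two, tr2]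

theorem neg_eq_self_of_two (h2 : (2 : F) = 0) (g : S) : -g = g := by
  ext i j
  simp
  linear_combination -(g i j) * h2

theorem conj_cases {a g : S} (ht : 4 - tr2 a ^ 2 ≠ 0)
    (h : a * (g * a * g⁻¹) = g * a * g⁻¹ * a) : g * a = a * g ∨ g * a * g⁻¹ = a⁻¹ := by
  have ha : a ≠ 1 := by rintro rfl; apply ht; rw [tr2_one]; ring
  have ha' : a ≠ -1 := by rintro rfl; apply ht; rw [tr2_neg, tr2_one]; ring
  obtain ⟨u, v, huv⟩ := exists_eq_add_of_commute ha ha' h
  obtain ⟨h1, h2⟩ := rel_of_eq_add huv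
  rw [tr2_conj] at h1
  set t := tr2 a with htdef
  have hv : (v - 1) * (v + 1) = 0 := by
    have h3 : (4 - t ^ 2) * ((v - 1) * (v + 1)) = 0 := by
      linear_combination 4 * h2 - (2 * u + v * t + t) * h1
    exact (mul_eq_zero.1 h3).resolve_left ht
  have case1 : u = 0 → v = 1 → g * a = a * g := by
    rintro rfl rfl
    have : g * a * g⁻¹ = a := Subtype.ext (by simpa using huv)
    exact (mul_inv_eq_iff_eq_mul).1 this
  have case2 : u = t → v = -1 → g * a * g⁻¹ = a⁻¹ := by
    rintro rfl rfl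
    exact Subtype.ext (by rw [huv, coe_inv2]; simp [sub_eq_add_neg, htdef])
  by_cases c2 : (2 : F) = 0
  · have hv1 : v = 1 := by
      rcases mul_eq_zero.1 hv with h | h
      · linear_combination h
      · linear_combination h - c2
    have h3 : u * (u + t) = 0 := by rw [hv1] at h2; linear_combination h2
    rcases mul_eq_zero.1 h3 with h | h
    · exact Or.inl (case1 h hv1)
    · exact Or.inr (case2 (by linear_combination h - t * c2) (by linear_combination hv1 + c2))
  · rcases mul_eq_zero.1 hv with h | h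
    · have hv1 : v = 1 := by linear_combination h
      refine Or.inl (case1 ?_ hv1)
      have : 2 * u = 0 := by rw [hv1] at h1; linear_combination h1
      exact (mul_eq_zero.1 this).resolve_left c2
    · have hv1 : v = -1 := by linear_combination h
      refine Or.inr (case2 ?_ hv1)
      have : 2 * (u - t) = 0 := by rw [hv1] at h1; linear_combination h1
      linear_combination (mul_eq_zero.1 this).resolve_left c2

theorem tr_zero_of_inverts {a g : S} (h : g * a * g⁻¹ = a⁻¹) (hne : g * a ≠ a * g) :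
    tr2 g = 0 := by
  have h2 : g * g * a = a * (g * g) := by
    have h' : g * a⁻¹ * g⁻¹ = a := by
      have := congrArg (fun z => z⁻¹) h
      simpa [mul_inv_rev, mul_assoc] using this
    calc g * g * a = g * (g * a * g⁻¹) * g := by group
      _ = g * a⁻¹ * g⁻¹ * (g * g) := by rw [h]; group
      _ = a * (g * g) := by rw [h']
  have hm : (g : M) * g * a = a * ((g : M) * g) := congrArg Subtype.val h2
  rw [cayley g, sub_mul, mul_sub, smul_mul_assoc, mul_smul_comm, one_mul, mul_one,
    sub_left_inj] at hm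
  by_contra ht
  exact hne (Subtype.ext (smul_right_injective M ht hm))

/-- The trace condition in the absence of a quaternion group. -/
def Basic2 (a b c : F) : Prop :=
  disc a b c = 0 ∨ (b = 0 ∧ c = 0) ∨ (a = 0 ∧ b = 0) ∨ (a = 0 ∧ c = 0)

theorem isSolvable_of_basic2 {x y : S} (h : Basic2 (tr2 x) (tr2 y) (tr2 (x * y))) :
    Group.IsSolvable (Subgroup.closure ({x, y} : Set S)) := by
  rcases h with h | ⟨h1, h2⟩ | ⟨h1, h2⟩ | ⟨h1, h2⟩
  · exact isSolvable_of_disc h
  · exact isSolvable_of_two_zero h1 h2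
  · exact isSolvable_of_two_zero' h1 h2
  · exact isSolvable_of_two_zero'' h1 h2

theorem basic2_of_abelian {x y : S} (A : Subgroup S) (hA : ∀ a ∈ A, ∀ b ∈ A, a * b = b * a)
    (hx : ∀ a ∈ A, x * a * x⁻¹ ∈ A) (hy : ∀ a ∈ A, y * a * y⁻¹ ∈ A)
    (hne : ∃ a ∈ A, a ≠ 1 ∧ a ≠ -1) : Basic2 (tr2 x) (tr2 y) (tr2 (x * y)) := by
  obtain ⟨a, haA, ha, ha'⟩ := hne
  by_cases ht : 4 - tr2 a ^ 2 = 0
  · left
    obtain ⟨s, hs2, hs1⟩ : ∃ s : F, 2 * s = tr2 a ∧ s ^ 2 = 1 := by
      by_cases c2 : (2 : F) = 0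
      · refine ⟨1, ?_, one_pow 2⟩
        have : tr2 a ^ 2 = 0 := by linear_combination 2 * c2 - ht
        rw [pow_eq_zero_iff (two_ne_zero : (2 : ℕ) ≠ 0)] at this
        rw [this, c2, zero_mul]
      · refine ⟨tr2 a / 2, by field_simp, ?_⟩
        field_simp
        linear_combination -ht
    have hdet : ∀ l : F, ((a : M) - l • (1 : M)).det = (l - s) ^ 2 := by
      intro l
      have hd := det2 a
      simp only [tr2] at hs2
      simp [Matrix.det_fin_two]
      linear_combination hd - hs1 + l * hs2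
    obtain ⟨v, hv, hav⟩ := Matrix.exists_mulVec_eq_zero_iff.2
      (show ((a : M) - s • (1 : M)).det = 0 by rw [hdet]; simp)
    have hav' : (a : M).mulVec v = s • v := by
      rw [Matrix.sub_mulVec, Matrix.smul_mulVec, Matrix.one_mulVec, sub_eq_zero] at hav
      exact hav
    have hline : ∀ g : S, (∀ b ∈ A, g * b * g⁻¹ ∈ A) → g ∈ lineStab v := by
      intro g hg
      obtain ⟨u, w, huw⟩ := exists_eq_add_of_commute ha ha' (hA a haA _ (hg a haA))
      have h1 : (a : M).mulVec (((g⁻¹ : S) : M).mulVec v) =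
          (u + w * s) • ((g⁻¹ : S) : M).mulVec v := by
        have e : (a : M) * ((g⁻¹ : S) : M) = ((g⁻¹ : S) : M) * ((g * a * g⁻¹ : S) : M) := by
          rw [← Matrix.SpecialLinearGroup.coe_mul, ← Matrix.SpecialLinearGroup.coe_mul]
          exact congrArg Subtype.val (show a * g⁻¹ = g⁻¹ * (g * a * g⁻¹) by group)
        rw [Matrix.mulVec_mulVec, e, ← Matrix.mulVec_mulVec, huw, Matrix.add_mulVec,
          Matrix.smul_mulVec, Matrix.smul_mulVec, Matrix.one_mulVec, hav', smul_smul,
          ← add_smul, Matrix.mulVec_smul]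
      have hz : ((g⁻¹ : S) : M).mulVec v ≠ 0 := by
        intro h
        apply hv
        have := congrArg ((g : M).mulVec) h
        rwa [Matrix.mulVec_mulVec, ← Matrix.SpecialLinearGroup.coe_mul, mul_inv_cancel,
          Matrix.SpecialLinearGroup.coe_one, Matrix.one_mulVec, Matrix.mulVec_zero] at this
      have h2 : ((a : M) - (u + w * s) • (1 : M)).mulVec (((g⁻¹ : S) : M).mulVec v) = 0 := by
        rw [Matrix.sub_mulVec, h1, Matrix.smul_mulVec, Matrix.one_mulVec, sub_self]
      have h3 : u + w * s = s := by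
        have := Matrix.exists_mulVec_eq_zero_iff.1 ⟨_, hz, h2⟩
        rw [hdet, pow_eq_zero_iff (two_ne_zero : (2 : ℕ) ≠ 0), sub_eq_zero] at this
        exact this
      rw [h3] at h2
      have hne0 : (a : M) - s • (1 : M) ≠ 0 := by
        intro h
        have h' : (a : M) = s • (1 : M) := sub_eq_zero.1 h
        have h5 : (s - 1) * (s + 1) = 0 := by linear_combination hs1
        rcases mul_eq_zero.1 h5 with e | e
        · exact ha (Subtype.ext (by rw [h', sub_eq_zero.1 e]; simp))
        · exact ha' (Subtype.ext (by rw [h', eq_neg_of_add_eq_zero_left e]; simp))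
      obtain ⟨l, hl⟩ := smul_of_det_pair hv (det_pair_eq_zero hne0 h2 hav)
      exact inv_mem_iff.1 (mem_lineStab_of_mulVec hv hl)
    obtain ⟨l, -, hl⟩ := hline x hx
    obtain ⟨m, -, hm⟩ := hline y hy
    have hz : ((x : M) * y - (y : M) * x).mulVec v = 0 := by
      rw [Matrix.sub_mulVec, ← Matrix.mulVec_mulVec, ← Matrix.mulVec_mulVec, hm, hl,
        Matrix.mulVec_smul, Matrix.mulVec_smul, hm, hl, smul_comm, sub_self]
    have := Matrix.exists_mulVec_eq_zero_iff.1 ⟨v, hv, hz⟩
    rwa [det_bracket, neg_eq_zero] at this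
  · have key : ∀ g : S, (∀ b ∈ A, g * b * g⁻¹ ∈ A) →
        g * a = a * g ∨ (g * a ≠ a * g ∧ g * a * g⁻¹ = a⁻¹ ∧ tr2 g = 0) := by
      intro g hg
      by_cases hc : g * a = a * g
      · exact Or.inl hc
      · have hi := (conj_cases ht (hA a haA _ (hg a haA))).resolve_left hc
        exact Or.inr ⟨hc, hi, tr_zero_of_inverts hi hc⟩
    rcases key x hx with hxc | ⟨hxn, hxi, hx0⟩ <;> rcases key y hy with hyc | ⟨hyn, hyi, hy0⟩
    · exact Or.inl (disc_eq_zero_of_commute (commute_of_centralised ha ha' hxc.symm hyc.symm))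
    · refine Or.inr (Or.inl ⟨hy0, tr_zero_of_inverts (a := a) ?_ ?_⟩)
      · calc x * y * a * (x * y)⁻¹ = x * (y * a * y⁻¹) * x⁻¹ := by group
          _ = a⁻¹ := by
            rw [hyi, mul_inv_eq_iff_eq_mul]
            exact (Commute.inv_right (show Commute x a from hxc)).eq
      · intro h
        apply hyn
        have := hxc
        calc y * a = x⁻¹ * (x * y * a) := by group
          _ = x⁻¹ * (a * x) * y := by rw [h]; group
          _ = a * y := by rw [← this]; group
    · refine Or.inr (Or.inr (Or.inr ⟨hx0, tr_zero_of_inverts (a := a) ?_ ?_⟩))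
      · calc x * y * a * (x * y)⁻¹ = x * (y * a) * y⁻¹ * x⁻¹ := by group
          _ = x * a * x⁻¹ := by rw [hyc]; group
          _ = a⁻¹ := hxi
      · intro h
        apply hxn
        calc x * a = x * y * a * y⁻¹ := by rw [mul_assoc x y a, hyc]; group
          _ = a * x := by rw [h]; group
    · exact Or.inr (Or.inr (Or.inl ⟨hx0, hy0⟩))

/-! ### the quaternion case -/

/-- Equal up to sign. -/
def Pm (c d : S) : Prop := c = d ∨ c = -d

/-- Commuting up to sign. -/
def PmComm (c d : S) : Prop := Pm (c * d) (d * c)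

theorem Pm.refl (c : S) : Pm c c := Or.inl rfl

theorem Pm.trans {a b c : S} (h : Pm a b) (h' : Pm b c) : Pm a c := by
  rcases h with rfl | rfl <;> rcases h' with rfl | rfl
  · exact Or.inl rfl
  · exact Or.inr rfl
  · exact Or.inr rfl
  · exact Or.inl (neg_neg c)

theorem Pm.symm {a b : S} (h : Pm a b) : Pm b a := by
  rcases h with rfl | rfl
  · exact Or.inl rfl
  · exact Or.inr (neg_neg b).symm

theorem Pm.mul {a b c d : S} (h : Pm a b) (h' : Pm c d) : Pm (a * c) (b * d) := by
  rcases h with rfl | rfl <;> rcases h' with rfl | rfl <;> simp [Pm]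

theorem Pm.conj {a b : S} (g : S) (h : Pm a b) : Pm (g * a * g⁻¹) (g * b * g⁻¹) :=
  ((Pm.refl g).mul h).mul (Pm.refl _)

theorem Pm.tr2_mem {a b : S} (h : Pm a b) (h0 : tr2 b = 0) : tr2 a = 0 := by
  rcases h with rfl | rfl
  · exact h0
  · rw [tr2_neg, h0, neg_zero]

theorem PmComm.mul {a b c : S} (h : PmComm a c) (h' : PmComm b c) : PmComm (a * b) c := by
  have h1 : Pm (a * (b * c)) (a * (c * b)) := (Pm.refl a).mul h'
  have h2 : Pm (a * c * b) (c * a * b) := Pm.mul h (Pm.refl b)
  unfold PmComm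
  rw [mul_assoc, ← mul_assoc c]
  exact h1.trans (by rw [← mul_assoc]; exact h2)

theorem tr_anti {a b : S} (h : a * b = -(b * a)) : tr2 a = -tr2 a := by
  have e : b⁻¹ * (a * b) = -a := by rw [h, mul_neg, inv_mul_cancel_left]
  calc tr2 a = tr2 (b⁻¹ * (a * b)) := by
        rw [tr2_mul_comm, mul_assoc, mul_inv_cancel, mul_one]
    _ = -tr2 a := by rw [e, tr2_neg]

/-- An anticommuting pair. -/
structure Quat (a b : S) : Prop where
  anti : a * b = -(b * a)
  ne : a * b ≠ b * a

theorem Quat.two_ne {a b : S} (h : Quat a b) : (2 : F) ≠ 0 := fun e =>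
  h.ne (h.anti.trans (neg_eq_self_of_two e _))

theorem Quat.symm {a b : S} (h : Quat a b) : Quat b a :=
  ⟨by rw [h.anti, neg_neg], fun e => h.ne e.symm⟩

theorem Quat.tr_left {a b : S} (h : Quat a b) : tr2 a = 0 := by
  have := tr_anti h.anti
  have h' : 2 * tr2 a = 0 := by linear_combination this
  exact (mul_eq_zero.1 h').resolve_left h.two_ne

theorem Quat.prod {a b : S} (h : Quat a b) : Quat (a * b) b := by
  refine ⟨?_, fun e => h.ne (mul_right_cancel (e.trans (mul_assoc b a b).symm))⟩
  conv_lhs => rw [h.anti, neg_mul]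
  rw [mul_assoc]

theorem Quat.classify {a b c : S} (h : Quat a b) (ha : PmComm c a) (hb : PmComm c b) :
    Pm c 1 ∨ Pm c a ∨ Pm c b ∨ Pm c (a * b) := by
  have hne1 : a ≠ 1 := fun e => h.ne (by rw [e, one_mul, mul_one])
  have hne2 : a ≠ -1 := fun e => h.ne (by rw [e, neg_one_mul, mul_neg, mul_one])
  have key : ∀ d : S, d * a = a * d → d * b = b * d → Pm d 1 := by
    intro d hda hdb
    obtain ⟨u, v, huv⟩ := exists_eq_add_of_commute hne1 hne2 hda.symm
    have hm : (d : M) * b = b * (d : M) := congrArg Subtype.val hdb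
    rw [huv, add_mul, mul_add, smul_mul_assoc, smul_mul_assoc, mul_smul_comm, mul_smul_comm,
      one_mul, mul_one, add_right_inj] at hm
    have hv : v = 0 := by
      by_contra hv
      exact h.ne (Subtype.ext (smul_right_injective M hv hm))
    subst hv
    obtain ⟨-, h2⟩ := rel_of_eq_add huv
    have h5 : (u - 1) * (u + 1) = 0 := by linear_combination h2
    rcases mul_eq_zero.1 h5 with e | e
    · exact Or.inl (Subtype.ext (by rw [huv, sub_eq_zero.1 e]; simp))
    · exact Or.inr (Subtype.ext (by rw [huv, eq_neg_of_add_eq_zero_left e]; simp))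
  have hba : b * a = -(a * b) := h.symm.anti
  have hinv : ∀ e : S, tr2 e = 0 → ∀ d : S, Pm (d * e) 1 → Pm d e := by
    intro e he d hd
    have he2 := sq_eq_neg_one he
    have := hd.mul (Pm.refl e)
    rw [mul_assoc, he2, mul_neg, mul_one, one_mul] at this
    exact (show Pm d (-d) from Or.inr (neg_neg d).symm).trans this
  rcases ha with ha | ha <;> rcases hb with hb | hb
  · exact Or.inl (key c ha hb)
  · refine Or.inr (Or.inl (hinv a h.tr_left c (key _ ?_ ?_)))
    · calc c * a * a = a * c * a := by rw [ha]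
        _ = a * (c * a) := mul_assoc _ _ _
    · calc c * a * b = c * (a * b) := mul_assoc _ _ _
        _ = -(c * b * a) := by rw [h.anti, mul_neg, mul_assoc]
        _ = b * (c * a) := by rw [hb, neg_mul, neg_neg, mul_assoc]
  · refine Or.inr (Or.inr (Or.inl (hinv b h.symm.tr_left c (key _ ?_ ?_))))
    · calc c * b * a = c * (b * a) := mul_assoc _ _ _
        _ = -(c * a * b) := by rw [hba, mul_neg, mul_assoc]
        _ = a * (c * b) := by rw [ha, neg_mul, neg_neg, mul_assoc]
    · calc c * b * b = b * c * b := by rw [hb]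
        _ = b * (c * b) := mul_assoc _ _ _
  · refine Or.inr (Or.inr (Or.inr (hinv (a * b) h.prod.tr_left c (key _ ?_ ?_))))
    · calc c * (a * b) * a = c * a * (b * a) := by simp only [mul_assoc]
        _ = -(c * a * a * b) := by rw [hba, mul_neg]; simp only [mul_assoc]
        _ = a * c * a * b := by rw [ha, neg_mul, neg_mul, neg_neg]
        _ = a * (c * (a * b)) := by simp only [mul_assoc]
    · calc c * (a * b) * b = c * (a * b) * b := rfl
        _ = -(c * b * a * b) := by rw [h.anti, mul_neg, neg_mul]; simp only [mul_assoc]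
        _ = b * c * a * b := by rw [hb, neg_mul, neg_mul, neg_neg]
        _ = b * (c * (a * b)) := by simp only [mul_assoc]

theorem Quat.tr_values {a b c : S} (h : Quat a b) (ha : PmComm c a) (hb : PmComm c b) :
    tr2 c = 0 ∨ tr2 c = 2 ∨ tr2 c = -2 := by
  rcases h.classify ha hb with e | e | e | e
  · rcases e with rfl | rfl
    · exact Or.inr (Or.inl tr2_one)
    · exact Or.inr (Or.inr (by rw [tr2_neg, tr2_one]))
  · exact Or.inl (e.tr2_mem h.tr_left)
  · exact Or.inl (e.tr2_mem h.symm.tr_left)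
  · exact Or.inl (e.tr2_mem h.prod.tr_left)

/-- The trace values allowed for elements normalising a quaternion group. -/
def Small (t : F) : Prop := t = 0 ∨ t = 2 ∨ t = -2

theorem Quat.small_of_fix (hns : (2 : F) = 0 ∨ ¬ IsSquare (2 : F)) {a b g : S} (h : Quat a b)
    (hga : Pm (g * a * g⁻¹) a) (hgb : PmComm (g * b * g⁻¹) b) : Small (tr2 g) := by
  rcases hga with e | e
  · have hga' : g * a = a * g := mul_inv_eq_iff_eq_mul.1 e
    have hba : g * b = b * g⁻¹ := by
      obtain ⟨u, v, huv⟩ := exists_eq_add_of_commute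
        (fun e => h.ne (by rw [e, one_mul, mul_one]))
        (fun e => h.ne (by rw [e, neg_one_mul, mul_neg, mul_one])) hga'.symm
      obtain ⟨h1, -⟩ := rel_of_eq_add huv
      apply Subtype.ext
      rw [Matrix.SpecialLinearGroup.coe_mul, Matrix.SpecialLinearGroup.coe_mul, coe_inv2, huv,
        ← h1, h.tr_left]
      have hm : (a : M) * b = -((b : M) * a) := congrArg Subtype.val h.anti
      simp only [add_mul, mul_add, mul_sub, smul_mul_assoc, mul_smul_comm, one_mul, mul_one, hm]
      module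
    have hgg : g * b * g⁻¹ = g * g * b := by
      rw [mul_assoc, ← hba, ← mul_assoc]
    have hsa : PmComm (g * g) a := Or.inl (by rw [mul_assoc, hga', ← mul_assoc, hga', mul_assoc])
    have hsb : PmComm (g * g) b := by
      have h1 : PmComm (g * g * b * b⁻¹) b :=
        (hgg ▸ hgb : PmComm (g * g * b) b).mul (Or.inl (by rw [inv_mul_cancel, mul_inv_cancel]))
      rwa [mul_inv_cancel_right] at h1
    have hsq : tr2 (g * g) = tr2 g ^ 2 - 2 := by
      have := tr2_mul_left_square g 1
      rw [mul_one, tr2_one] at this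
      rw [this]; ring
    rcases h.tr_values hsa hsb with e' | e' | e' <;> rw [hsq] at e'
    · exfalso
      exact hns.resolve_left h.two_ne ⟨tr2 g, by linear_combination -e'⟩
    · have : (tr2 g - 2) * (tr2 g + 2) = 0 := by linear_combination e'
      rcases mul_eq_zero.1 this with h' | h'
      · exact Or.inr (Or.inl (sub_eq_zero.1 h'))
      · exact Or.inr (Or.inr (eq_neg_of_add_eq_zero_left h'))
    · have : tr2 g ^ 2 = 0 := by linear_combination e'
      exact Or.inl ((pow_eq_zero_iff (two_ne_zero : (2 : ℕ) ≠ 0)).1 this)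
  · left
    have e' : g * a = -(a * g) := by
      rw [mul_inv_eq_iff_eq_mul, neg_mul] at e; exact e
    have := tr_anti e'
    have h' : 2 * tr2 g = 0 := by linear_combination this
    exact (mul_eq_zero.1 h').resolve_left h.two_ne

theorem Quat.small_or_cube (hns : (2 : F) = 0 ∨ ¬ IsSquare (2 : F)) {a b g : S} (h : Quat a b)
    (A : Subgroup S) (hA : ∀ c ∈ A, ∀ d ∈ A, PmComm c d) (ha : a ∈ A) (hb : b ∈ A)
    (hg : ∀ c ∈ A, g * c * g⁻¹ ∈ A) : Small (tr2 g) ∨ Small (tr2 (g * g * g)) := by
  have hg3 : ∀ c ∈ A, g * g * g * c * (g * g * g)⁻¹ ∈ A := by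
    intro c hc
    rw [show g * g * g * c * (g * g * g)⁻¹ = g * (g * (g * c * g⁻¹) * g⁻¹) * g⁻¹ by group]
    exact hg _ (hg _ (hg _ hc))
  have hab : a * b ∈ A := mul_mem ha hb
  have cl : ∀ c ∈ A, Pm c 1 ∨ Pm c a ∨ Pm c b ∨ Pm c (a * b) :=
    fun c hc => h.classify (hA c hc a ha) (hA c hc b hb)
  set A' := g * a * g⁻¹ with hA'
  set B' := g * b * g⁻¹ with hB'
  have hprod : g * (a * b) * g⁻¹ = A' * B' := by rw [hA', hB']; group
  by_cases f1 : Pm A' a
  · exact Or.inl (h.small_of_fix hns f1 (hA _ (hg b hb) b hb))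
  by_cases f2 : Pm B' b
  · exact Or.inl (h.symm.small_of_fix hns f2 (hA _ (hg a ha) a ha))
  by_cases f3 : Pm (A' * B') (a * b)
  · exact Or.inl (h.prod.small_of_fix hns (hprod.symm ▸ f3) (hA _ (hg b hb) b hb))
  have hn : ∀ {c d : S}, c * d ≠ d * c → ¬ Pm (g * c * g⁻¹) 1 := by
    intro c d hcd hc
    have h1 : Pm c 1 := by
      have := hc.conj g⁻¹
      rwa [show g⁻¹ * (g * c * g⁻¹) * g⁻¹⁻¹ = c by group,
        show g⁻¹ * 1 * g⁻¹⁻¹ = (1 : S) by group] at this
    rcases h1 with rfl | rfl
    · exact hcd (by rw [one_mul, mul_one])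
    · exact hcd (by rw [neg_one_mul, mul_neg, mul_one])
  have n1 : ¬ Pm A' 1 := hn h.ne
  have n2 : ¬ Pm B' 1 := hn h.symm.ne
  have n3 : ¬ Pm (A' * B') 1 := hprod ▸ hn h.prod.ne
  have a2 : Pm (a * a) 1 := Or.inr (sq_eq_neg_one h.tr_left)
  have b2 : Pm (b * b) 1 := Or.inr (sq_eq_neg_one h.symm.tr_left)
  have iter : ∀ {c d e : S}, Pm (g * c * g⁻¹) d → Pm (g * d * g⁻¹) e →
      Pm (g * e * g⁻¹) c → Pm (g * g * g * c * (g * g * g)⁻¹) c := by
    intro c d e h1 h2 h3
    rw [show g * g * g * c * (g * g * g)⁻¹ = g * (g * (g * c * g⁻¹) * g⁻¹) * g⁻¹ by group]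
    exact ((((h1.conj g).trans h2).conj g).trans h3)
  rcases cl _ (hg a ha) with e | e | e | e
  · exact absurd e n1
  · exact absurd e f1
  · rcases cl _ (hg b hb) with e' | e' | e' | e'
    · exact absurd e' n2
    · exact absurd ((e.mul e').trans (Or.inr h.symm.anti)) f3
    · exact absurd e' f2
    · refine Or.inr (h.small_of_fix hns (iter e e' ?_) (hA _ (hg3 b hb) b hb))
      rw [hprod]
      refine (e.mul e').trans ?_
      have : Pm (b * (a * b)) (a * (b * b)) := by
        rw [← mul_assoc, ← mul_assoc]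
        exact (show Pm (b * a) (a * b) from Or.inr h.symm.anti).mul (Pm.refl b)
      exact this.trans (by simpa using (Pm.refl a).mul b2)
  · rcases cl _ (hg b hb) with e' | e' | e' | e'
    · exact absurd e' n2
    · refine Or.inr (h.symm.small_of_fix hns (iter e' e ?_) (hA _ (hg3 a ha) a ha))
      rw [hprod]
      refine (e.mul e').trans ?_
      have : Pm (a * b * a) (a * a * b) := by
        rw [mul_assoc, mul_assoc a a b]
        exact (Pm.refl a).mul (Or.inr h.symm.anti)
      exact this.trans (by simpa using a2.mul (Pm.refl b))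
    · exact absurd e' f2
    · refine absurd ((e.mul e').trans ?_) n3
      exact Or.inr (sq_eq_neg_one h.prod.tr_left)

theorem derived_series_data (H : Subgroup S) (hH : Group.IsSolvable H)
    (hne : ∃ c ∈ H, c ≠ 1 ∧ c ≠ -1) :
    ∃ A : Subgroup S, (∀ c ∈ A, ∀ g ∈ H, g * c * g⁻¹ ∈ A) ∧
      (∀ c ∈ A, ∀ d ∈ A, PmComm c d) ∧ ∃ c ∈ A, c ≠ 1 ∧ c ≠ -1 := by
  classical
  obtain ⟨n, hn⟩ := hH.solvable
  have hex : ∃ k, ∀ c ∈ derivedSeries H k, (c : S) = 1 ∨ (c : S) = -1 :=
    ⟨n, fun c hc => by rw [hn, Subgroup.mem_bot] at hc; rw [hc]; exact Or.inl rfl⟩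
  have h0 : Nat.find hex ≠ 0 := by
    intro h0
    have hs := Nat.find_spec hex
    rw [h0] at hs
    obtain ⟨c, hc, h1, h2⟩ := hne
    rcases hs ⟨c, hc⟩ (by simp) with h | h
    · exact h1 h
    · exact h2 h
  obtain ⟨j, hj⟩ := Nat.exists_eq_succ_of_ne_zero h0
  refine ⟨(derivedSeries H j).map H.subtype, ?_, ?_, ?_⟩
  · rintro c ⟨c, hc, rfl⟩ g hg
    refine Subgroup.mem_map.2 ⟨(⟨g, hg⟩ : H) * c * (⟨g, hg⟩ : H)⁻¹,
      (derivedSeries_normal H j).conj_mem c hc (⟨g, hg⟩ : H), ?_⟩
    simp
  · rintro c ⟨c, hc, rfl⟩ d ⟨d, hd, rfl⟩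
    have hs := Nat.find_spec hex
    rw [hj] at hs
    have hm : c * d * c⁻¹ * d⁻¹ ∈ derivedSeries H (j + 1) := by
      rw [derivedSeries_succ, ← commutatorElement_def]
      exact Subgroup.commutator_mem_commutator hc hd
    have hk := hs _ hm
    have e : (c : S) * (d : S) = ((c * d * c⁻¹ * d⁻¹ : H) : S) * ((d : S) * (c : S)) := by
      simp only [Subgroup.coe_mul, Subgroup.coe_inv]
      group
    generalize ((c * d * c⁻¹ * d⁻¹ : H) : S) = k at e hk
    show Pm ((c : S) * (d : S)) ((d : S) * (c : S))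
    rcases hk with rfl | rfl
    · exact Or.inl (by rw [e, one_mul])
    · exact Or.inr (by rw [e, neg_one_mul])
  · have := Nat.find_min hex (show j < Nat.find hex by omega)
    push Not at this
    obtain ⟨c, hc, h1, h2⟩ := this
    exact ⟨c, ⟨c, hc, rfl⟩, h1, h2⟩

/-- The necessary condition. -/
theorem traces_of_isSolvable (hns : (2 : F) = 0 ∨ ¬ IsSquare (2 : F)) {x y : S}
    (h : Group.IsSolvable (Subgroup.closure ({x, y} : Set S))) :
    Basic2 (tr2 x) (tr2 y) (tr2 (x * y)) ∨
      ((2 : F) ≠ 0 ∧ ∀ g ∈ Subgroup.closure ({x, y} : Set S),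
        Small (tr2 g) ∨ Small (tr2 (g * g * g))) := by
  set H := Subgroup.closure ({x, y} : Set S) with hH
  have hxH : x ∈ H := Subgroup.subset_closure (by simp)
  have hyH : y ∈ H := Subgroup.subset_closure (by simp)
  by_cases hne : ∃ c ∈ H, c ≠ 1 ∧ c ≠ -1
  swap
  · push Not at hne
    refine Or.inl (Or.inl (disc_eq_zero_of_commute ?_))
    by_cases hx1 : x = 1
    · rw [hx1, one_mul, mul_one]
    · rw [hne x hxH hx1, neg_one_mul, mul_neg, mul_one]
  obtain ⟨A, hconj, hcomm, hneA⟩ := derived_series_data H h hne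
  by_cases hab : ∀ a ∈ A, ∀ b ∈ A, a * b = b * a
  · exact Or.inl (basic2_of_abelian A hab (fun a ha => hconj a ha x hxH)
      (fun a ha => hconj a ha y hyH) hneA)
  push Not at hab
  obtain ⟨a, ha, b, hb, hne'⟩ := hab
  have hq : Quat a b := ⟨(hcomm a ha b hb).resolve_left hne', hne'⟩
  exact Or.inr ⟨hq.two_ne, fun g hg =>
    hq.small_or_cube hns A hcomm ha hb (fun c hc => hconj c hc g hg)⟩

end Cfsg.Agent.Lib.PslSolubilizer
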