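import Cfsg.Agent.Lib.PslSolubilizer.Necessary

/-!
Traces in the prime field in characteristic three.
Owner: helper27.
-/

set_option autoImplicit false

namespace Cfsg.Agent.Lib.PslSolubilizer

variable {F : Type*} [Field F]

local notation "S" => Matrix.SpecialLinearGroup (Fin 2) F
local notation "M" => Matrix (Fin 2) (Fin 2) F

/-- Membership in the prime field, in characteristic three. -/
def InK (t : F) : Prop := t = 0 ∨ t = 1 ∨ t = -1

theorem InK.neg {t : F} (h : InK t) : InK (-t) := by
  rcases h with rfl | rfl | rfl <;> simp [InK]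

theorem InK.mul {s t : F} (h : InK s) (h' : InK t) : InK (s * t) := by
  rcases h with rfl | rfl | rfl <;> rcases h' with rfl | rfl | rfl <;> simp [InK]

theorem InK.add (h3 : (3 : F) = 0) {s t : F} (h : InK s) (h' : InK t) : InK (s + t) := by
  have e : (1 : F) + 1 = -1 := by linear_combination h3
  have e' : (-1 : F) + -1 = 1 := by linear_combination -h3
  rcases h with rfl | rfl | rfl <;> rcases h' with rfl | rfl | rfl <;> simp [InK, e, e']

theorem InK.sub (h3 : (3 : F) = 0) {s t : F} (h : InK s) (h' : InK t) : InK (s - t) := by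
  rw [sub_eq_add_neg]; exact h.add h3 h'.neg

theorem inK_of_small (h3 : (3 : F) = 0) {t : F} (h : Small t) : InK t := by
  rcases h with rfl | rfl | rfl
  · exact Or.inl rfl
  · exact Or.inr (Or.inr (by linear_combination h3))
  · exact Or.inr (Or.inl (by linear_combination -h3))

/-- The `F₃`-span of `1, x, y, xy`. -/
def InSpan (x y : S) (w : M) : Prop :=
  ∃ α β γ δ : F, InK α ∧ InK β ∧ InK γ ∧ InK δ ∧
    w = α • (1 : M) + β • (x : M) + γ • (y : M) + δ • ((x : M) * y)

theorem mul_comm_formula (x y : S) :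
    (y : M) * x = (-1 : F) • ((x : M) * y) + tr2 x • (y : M) + tr2 y • (x : M)
      + (tr2 (x * y) - tr2 x * tr2 y) • (1 : M) := by
  ext i j
  fin_cases i <;> fin_cases j <;>
    simp [tr2, Matrix.mul_apply, Fin.sum_univ_two] <;> ring

theorem pow_twelve (h3 : (3 : F) = 0) {g : S} (h : InK (tr2 g)) : g ^ 12 = 1 := by
  rcases h with h | h | h
  · have e := sq_eq_neg_one h
    rw [show 12 = 2 * 6 from rfl, pow_mul, pow_two, e]
    simp [Even.neg_one_pow (show Even 6 by decide)]
  all_goals
    have hc := cayley g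
    rw [h] at hc
    have e3 : g * g * g = -1 ∨ g * g * g = 1 := by
      first
      | left
        apply Subtype.ext
        simp only [Matrix.SpecialLinearGroup.coe_mul, Matrix.SpecialLinearGroup.coe_neg,
          Matrix.SpecialLinearGroup.coe_one, hc, sub_mul, smul_mul_assoc, one_mul]
        module
      | right
        apply Subtype.ext
        simp only [Matrix.SpecialLinearGroup.coe_mul,
          Matrix.SpecialLinearGroup.coe_one, hc, sub_mul, smul_mul_assoc, one_mul]
        module
    rcases e3 with e | e <;>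
    · rw [show g ^ 12 = (g * g * g) ^ 4 by rw [show g * g * g = g ^ 3 by rw [pow_succ, pow_two], ← pow_mul], e]
      simp [Even.neg_one_pow (show Even 4 by decide)]

theorem isSolvable_of_inK (h3 : (3 : F) = 0) [Fintype F] {x y : S} (ha : InK (tr2 x))
    (hb : InK (tr2 y)) (hc : InK (tr2 (x * y))) :
    Group.IsSolvable (Subgroup.closure ({x, y} : Set S)) := by
  classical
  have k0 : InK (0 : F) := Or.inl rfl
  have k1 : InK (1 : F) := Or.inr (Or.inl rfl)
  have k2 : InK (2 : F) := Or.inr (Or.inr (by linear_combination h3))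
  have hx : ∀ w, InSpan x y w → InSpan x y ((x : M) * w) := by
    rintro w ⟨α, β, γ, δ, hα, hβ, hγ, hδ, rfl⟩
    refine ⟨-β, α + tr2 x * β, -δ, γ + tr2 x * δ, hβ.neg, hα.add h3 (ha.mul hβ), hδ.neg,
      hγ.add h3 (ha.mul hδ), ?_⟩
    simp only [mul_add, mul_smul_comm, mul_one, ← mul_assoc, cayley x, sub_mul, smul_mul_assoc,
      one_mul]
    module
  have hy : ∀ w, InSpan x y w → InSpan x y ((y : M) * w) := by
    rintro w ⟨α, β, γ, δ, hα, hβ, hγ, hδ, rfl⟩
    refine ⟨β * (tr2 (x * y) - tr2 x * tr2 y) - γ - δ * tr2 x, β * tr2 y + δ,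
      α + β * tr2 x + γ * tr2 y + δ * tr2 (x * y), -β,
      ((hβ.mul (hc.sub h3 (ha.mul hb))).sub h3 hγ).sub h3 (hδ.mul ha),
      (hβ.mul hb).add h3 hδ,
      ((hα.add h3 (hβ.mul ha)).add h3 (hγ.mul hb)).add h3 (hδ.mul hc), hβ.neg, ?_⟩
    simp only [mul_add, mul_smul_comm, mul_one, ← mul_assoc, mul_comm_formula x y, cayley y,
      add_mul, smul_mul_assoc, one_mul]
    simp only [mul_assoc, cayley y, mul_sub, mul_smul_comm, mul_one]
    module
  have hsub : ∀ a : F, InK a → ∀ u v : M, InSpan x y u → InSpan x y v →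
      InSpan x y (a • u - v) := by
    rintro a hka u v ⟨α, β, γ, δ, hα, hβ, hγ, hδ, rfl⟩ ⟨α', β', γ', δ', hα', hβ', hγ', hδ', rfl⟩
    exact ⟨a * α - α', a * β - β', a * γ - γ', a * δ - δ', (hka.mul hα).sub h3 hα',
      (hka.mul hβ).sub h3 hβ', (hka.mul hγ).sub h3 hγ', (hka.mul hδ).sub h3 hδ', by module⟩
  have hall : ∀ g ∈ Subgroup.closure ({x, y} : Set S), InSpan x y (g : M) := by
    intro g hg
    induction hg using Subgroup.closure_induction_left with
    | one => exact ⟨1, 0, 0, 0, k1, k0, k0, k0, by simp⟩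
    | mul_left u hu w hw ih =>
      rw [Matrix.SpecialLinearGroup.coe_mul]
      rcases hu with rfl | rfl
      exacts [hx _ ih, hy _ ih]
    | inv_mul_cancel u hu w hw ih =>
      rw [Matrix.SpecialLinearGroup.coe_mul, coe_inv2, sub_mul, smul_mul_assoc, one_mul]
      rcases hu with rfl | rfl
      exacts [hsub _ ha _ _ ih (hx _ ih), hsub _ hb _ _ ih (hy _ ih)]
  have htr : ∀ g ∈ Subgroup.closure ({x, y} : Set S), InK (tr2 g) := by
    intro g hg
    obtain ⟨α, β, γ, δ, hα, hβ, hγ, hδ, e⟩ := hall g hg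
    have : tr2 g = 2 * α + β * tr2 x + γ * tr2 y + δ * tr2 (x * y) := by
      simp [tr2, e, Matrix.mul_apply, Fin.sum_univ_two]
      ring
    rw [this]
    exact (((k2.mul hα).add h3 (hβ.mul ha)).add h3 (hγ.mul hb)).add h3 (hδ.mul hc)
  set H := Subgroup.closure ({x, y} : Set S) with hH
  have hsupp : (Nat.card H).primeFactors ⊆ {2, 3} := by
    intro r hr
    obtain ⟨hr1, hr2, -⟩ := Nat.mem_primeFactors.1 hr
    haveI := Fact.mk hr1
    obtain ⟨g, hg⟩ := exists_prime_orderOf_dvd_card' r hr2
    have h12 : g ^ 12 = 1 := Subtype.ext (by simpa using pow_twelve h3 (htr g g.2))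
    have hdvd : r ∣ 12 := hg ▸ orderOf_dvd_of_pow_eq_one h12
    have hle : r ≤ 12 := Nat.le_of_dvd (by norm_num) hdvd
    have key : ∀ k < 13, k.Prime → k ∣ 12 → k ∈ ({2, 3} : Finset ℕ) := by decide
    exact key r (by omega) hr1 hdvd
  refine Cfsg.Agent.Lib.Induced.Burnside.isSolvable_of_card_eq 2 3
    ((Nat.card H).factorization 2) ((Nat.card H).factorization 3) Nat.prime_two Nat.prime_three ?_
  have hne := (Nat.card_pos (α := H)).ne'
  conv_lhs => rw [← Nat.prod_factorization_pow_eq_self hne]
  rw [Finsupp.prod_of_support_subset _ (by simpa using hsupp) _ (by simp)]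
  rw [Finset.prod_pair (by norm_num)]

/-- The solubility criterion in characteristic three with `2` a non-square. -/
theorem isSolvable_iff_three (h3 : (3 : F) = 0) (hns : ¬ IsSquare (2 : F)) [Fintype F] (x y : S) :
    Group.IsSolvable (Subgroup.closure ({x, y} : Set S)) ↔
      (Basic2 (tr2 x) (tr2 y) (tr2 (x * y)) ∨
        (InK (tr2 x) ∧ InK (tr2 y) ∧ InK (tr2 (x * y)))) := by
  constructor
  · intro h
    refine (traces_of_isSolvable (Or.inr hns) h).imp id ?_
    rintro ⟨-, hall⟩
    have hk : ∀ g ∈ Subgroup.closure ({x, y} : Set S), InK (tr2 g) := by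
      intro g hg
      rcases hall g hg with h | h
      · exact inK_of_small h3 h
      · have e2 : tr2 (g * g) = tr2 g * tr2 g - 2 := by
          have := tr2_mul_left_square g 1
          rwa [mul_one, tr2_one] at this
        have e3 : tr2 (g * g * g) = tr2 g ^ 3 := by
          rw [mul_assoc, tr2_mul_left_square, e2]
          linear_combination -(tr2 g) * h3
        have hk := inK_of_small h3 h
        rw [e3] at hk
        rcases hk with h' | h' | h'
        · exact Or.inl ((pow_eq_zero_iff (three_ne_zero : (3 : ℕ) ≠ 0)).1 h')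
        · right; left
          have : (tr2 g - 1) ^ 3 = 0 := by
            linear_combination h' + (-(tr2 g) ^ 2 + tr2 g) * h3
          exact sub_eq_zero.1 ((pow_eq_zero_iff (three_ne_zero : (3 : ℕ) ≠ 0)).1 this)
        · right; right
          have : (tr2 g + 1) ^ 3 = 0 := by
            linear_combination h' + ((tr2 g) ^ 2 + tr2 g) * h3
          exact eq_neg_of_add_eq_zero_left ((pow_eq_zero_iff (three_ne_zero : (3 : ℕ) ≠ 0)).1 this)
    have hxm : x ∈ Subgroup.closure ({x, y} : Set S) := Subgroup.subset_closure (by simp)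
    have hym : y ∈ Subgroup.closure ({x, y} : Set S) := Subgroup.subset_closure (by simp)
    exact ⟨hk x hxm, hk y hym, hk _ (mul_mem hxm hym)⟩
  · rintro (h | ⟨ha, hb, hc⟩)
    exacts [isSolvable_of_basic2 h, isSolvable_of_inK h3 ha hb hc]

/-- The solubility criterion in characteristic two. -/
theorem isSolvable_iff_two (h2 : (2 : F) = 0) (x y : S) :
    Group.IsSolvable (Subgroup.closure ({x, y} : Set S)) ↔
      Basic2 (tr2 x) (tr2 y) (tr2 (x * y)) :=
  ⟨fun h => (traces_of_isSolvable (Or.inl h2) h).resolve_right fun h' => h'.1 h2,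
    isSolvable_of_basic2⟩

end Cfsg.Agent.Lib.PslSolubilizer
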