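import Cfsg.Agent.Lib.PslSolubilizer.Count
import Cfsg.Agent.Lib.PslSolubilizer.Three

/-!
Sizes of the solubilisers in `SL₂` and `PSL₂`.
Owner: helper27.
-/

set_option autoImplicit false

namespace Cfsg.Agent.Lib.PslSolubilizer

variable {F : Type*} [Field F] [Fintype F]

local notation "S" => Matrix.SpecialLinearGroup (Fin 2) F
local notation "M" => Matrix (Fin 2) (Fin 2) F
local notation "π" => QuotientGroup.mk' (Subgroup.center (Matrix.SpecialLinearGroup (Fin 2) F))

theorem mem_center_two {z : S} : z ∈ Subgroup.center S ↔ z = 1 ∨ z = -1 := by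
  constructor
  · intro hz
    obtain ⟨r, hr, hzr⟩ := Matrix.SpecialLinearGroup.mem_center_iff.1 hz
    simp only [Fintype.card_fin] at hr
    have h5 : (r - 1) * (r + 1) = 0 := by linear_combination hr
    rcases mul_eq_zero.1 h5 with e | e
    · exact Or.inl (Subtype.ext (by rw [← hzr, sub_eq_zero.1 e]; simp))
    · exact Or.inr (Subtype.ext (by
        rw [← hzr, eq_neg_of_add_eq_zero_left e, map_neg, map_one]; simp))
  · rintro (rfl | rfl)
    · exact one_mem _
    · exact Subgroup.mem_center_iff.2 fun g => by rw [neg_one_mul, mul_neg, mul_one]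

theorem pi_eq_one {g : S} : π g = 1 ↔ g = 1 ∨ g = -1 :=
  (QuotientGroup.eq_one_iff g).trans mem_center_two

theorem pi_neg (g : S) : π (-g) = π g := by
  rw [← neg_one_mul g, map_mul, pi_eq_one.2 (Or.inr rfl), one_mul]

theorem isSolvable_pi_iff (x y : S) :
    Group.IsSolvable (Subgroup.closure ({π x, π y} : Set (S ⧸ Subgroup.center S))) ↔
      Group.IsSolvable (Subgroup.closure ({x, y} : Set S)) := by
  have hmap : (Subgroup.closure ({x, y} : Set S)).map π = Subgroup.closure {π x, π y} := by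
    rw [MonoidHom.map_closure, Set.image_pair]
  rw [← hmap]
  set H := Subgroup.closure ({x, y} : Set S)
  constructor
  · intro h
    let f : H →* H.map π := MonoidHom.subgroupMap π H
    haveI : Group.IsSolvable f.ker := Group.isSolvable_of_comm (fun a b => by
      have ha : ((a : H) : S) ∈ Subgroup.center S :=
        (QuotientGroup.eq_one_iff _).1 (congrArg Subtype.val (MonoidHom.mem_ker.1 a.2))
      apply Subtype.ext; apply Subtype.ext
      exact (Subgroup.mem_center_iff.1 ha _).symm)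
    exact Group.isSolvable_of_ker_le_range f.ker.subtype f (by simp)
  · intro h
    exact Group.isSolvable_of_surjective (MonoidHom.subgroupMap_surjective π H)

theorem card_pi_preimage (P : S ⧸ Subgroup.center S → Prop) :
    Nat.card {y : S // P (π y)} = Nat.card (Subgroup.center S) * Nat.card {y // P y} := by
  rw [← Nat.card_prod]
  exact Nat.card_congr (QuotientGroup.preimageMkEquivSubgroupProdSet (Subgroup.center S) {y | P y})

theorem card_center_two (h2 : (2 : F) = 0) : Nat.card (Subgroup.center S) = 1 := by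
  rw [Nat.card_eq_one_iff_exists]
  refine ⟨⟨1, one_mem _⟩, fun z => Subtype.ext ?_⟩
  rcases mem_center_two.1 z.2 with h | h
  · exact h
  · exact h.trans (neg_eq_self_of_two h2 1)

theorem card_center_odd (h2 : (2 : F) ≠ 0) : Nat.card (Subgroup.center S) = 2 := by
  have hne : (1 : S) ≠ -1 := by
    intro h
    have := congrArg (fun g : S => g 0 0) h
    simp at this
    exact h2 (by linear_combination this)
  have e : (Subgroup.center S : Set S) = {1, -1} := by ext z; exact mem_center_two
  show Nat.card ((Subgroup.center S : Set S) : Set S) = 2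
  rw [Nat.card_coe_set_eq, e, Set.ncard_pair hne]

theorem card_trace_set_eq_comp2 {x : S} (hx : x ≠ 1) (hx' : x ≠ -1) (P : F → F → F → Prop) :
    Nat.card {y : S // P (tr2 x) (tr2 y) (tr2 (x * y))} =
      Nat.card {y : S // P (tr2 x) (tr2 y) (tr2 (comp2 (tr2 x) * y))} := by
  obtain ⟨φ, hφ, htr⟩ := exists_conj_comp2 hx hx'
  refine Nat.card_congr (Equiv.subtypeEquiv φ.toEquiv fun y => ?_)
  show _ ↔ P (tr2 x) (tr2 (φ y)) (tr2 (comp2 (tr2 x) * φ y))
  rw [← hφ, ← map_mul, htr, htr]

/-- The centraliser of a companion matrix. -/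
def centraliserEquiv (a : F) :
    Subgroup.centralizer ({comp2 a} : Set S) ≃
      {w : F × F // w.1 ^ 2 + a * w.1 * w.2 + w.2 ^ 2 = 1} where
  toFun y := ⟨(y.1 0 0, y.1 1 0), by
    have h : (!![0, -1; 1, a] : M) * (y.1 : M) = (y.1 : M) * !![0, -1; 1, a] :=
      congrArg Subtype.val (Subgroup.mem_centralizer_iff.1 y.2 (comp2 a) rfl)
    have h0 := congrFun (congrFun h 0) 0
    have h1 := congrFun (congrFun h 1) 0
    have hd := det2 y.1
    simp [Matrix.mul_apply, Fin.sum_univ_two] at h0 h1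
    linear_combination hd + y.1 0 0 * h1 - y.1 1 0 * h0⟩
  invFun w := ⟨⟨!![w.1.1, -w.1.2; w.1.2, w.1.1 + a * w.1.2], by
    simp [Matrix.det_fin_two]; linear_combination w.2⟩, by
    refine Subgroup.mem_centralizer_iff.2 ?_
    rintro g rfl
    apply Subtype.ext
    show (!![0, -1; 1, a] : M) * !![w.1.1, -w.1.2; w.1.2, w.1.1 + a * w.1.2] =
      !![w.1.1, -w.1.2; w.1.2, w.1.1 + a * w.1.2] * !![0, -1; 1, a]
    ext i j
    fin_cases i <;> fin_cases j <;> simp [Matrix.mul_apply, Fin.sum_univ_two] <;> ring⟩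
  left_inv y := by
    have h : (!![0, -1; 1, a] : M) * (y.1 : M) = (y.1 : M) * !![0, -1; 1, a] :=
      congrArg Subtype.val (Subgroup.mem_centralizer_iff.1 y.2 (comp2 a) rfl)
    have h0 := congrFun (congrFun h 0) 0
    have h1 := congrFun (congrFun h 1) 0
    simp [Matrix.mul_apply, Fin.sum_univ_two] at h0 h1
    apply Subtype.ext; apply Subtype.ext
    ext i j
    fin_cases i <;> fin_cases j <;> simp
    · linear_combination h0
    · linear_combination h1
  right_inv w := by simp

theorem pow_reps_eq_one {x : S} (hx : x ≠ 1) (hx' : x ≠ -1) : x ^ reps (tr2 x) 1 = 1 := by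
  obtain ⟨φ, hφ, -⟩ := exists_conj_comp2 hx hx'
  apply φ.injective
  rw [map_pow, map_one, hφ, ← card_centraliser_pairs, ← Nat.card_congr (centraliserEquiv _)]
  exact congrArg Subtype.val (pow_card_eq_one'
    (x := (⟨comp2 (tr2 x), Subgroup.mem_centralizer_iff.2 (by rintro g rfl; rfl)⟩ :
      Subgroup.centralizer ({comp2 (tr2 x)} : Set S))))

theorem coeff_eq_zero {x : S} (hx : x ≠ 1) (hx' : x ≠ -1) {r s : F}
    (h : r • (x : M) = s • (1 : M)) : r = 0 := by
  by_contra hr
  have e : (x : M) = (s / r) • (1 : M) := by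
    rw [div_eq_inv_mul, mul_smul, ← h, smul_smul, inv_mul_cancel₀ hr, one_smul]
  have hd := det2 x
  simp [e] at hd
  have h5 : (s / r - 1) * (s / r + 1) = 0 := by linear_combination hd
  rcases mul_eq_zero.1 h5 with e' | e'
  · exact hx (Subtype.ext (by rw [e, sub_eq_zero.1 e']; simp))
  · exact hx' (Subtype.ext (by rw [e, eq_neg_of_add_eq_zero_left e']; simp))

theorem tr_of_sq {x : S} (hx : x ≠ 1) (hx' : x ≠ -1) (h : x * x = 1 ∨ x * x = -1) :
    tr2 x = 0 := by
  rcases h with h | h <;> have e := (cayley x).symm.trans (congrArg Subtype.val h)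
  · refine coeff_eq_zero hx hx' (s := 2) ?_
    simp only [Matrix.SpecialLinearGroup.coe_one, sub_eq_iff_eq_add] at e
    rw [e, two_smul]
  · refine coeff_eq_zero hx hx' (s := 0) ?_
    simp only [Matrix.SpecialLinearGroup.coe_neg, Matrix.SpecialLinearGroup.coe_one,
      sub_eq_iff_eq_add] at e
    rw [e, neg_add_cancel, zero_smul]

theorem tr_of_cube {x : S} (hx : x ≠ 1) (hx' : x ≠ -1) (h : x ^ 3 = 1 ∨ x ^ 3 = -1) :
    tr2 x ^ 2 - 1 = 0 := by
  have e : ((x ^ 3 : S) : M) = (tr2 x ^ 2 - 1) • (x : M) - tr2 x • (1 : M) := by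
    rw [pow_three, Matrix.SpecialLinearGroup.coe_mul, Matrix.SpecialLinearGroup.coe_mul, cayley x,
      mul_sub, mul_smul_comm, cayley x, mul_one]
    module
  rcases h with h | h
  · refine coeff_eq_zero hx hx' (s := 1 + tr2 x) ?_
    rw [h, Matrix.SpecialLinearGroup.coe_one, eq_comm, sub_eq_iff_eq_add] at e
    rw [e]; module
  · refine coeff_eq_zero hx hx' (s := -1 + tr2 x) ?_
    rw [h, Matrix.SpecialLinearGroup.coe_neg, Matrix.SpecialLinearGroup.coe_one, eq_comm,
      sub_eq_iff_eq_add] at e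
    rw [e]; module

/-- Both semisimple cases at once. -/
theorem card_semisimple {a : F} (ha : 4 - a ^ 2 ≠ 0) (P : F → F → Prop)
    (hP : ∀ b c, P b c ↔ (disc a b c = 0 ∨ (b = 0 ∧ c = 0))) {L L0 : ℕ}
    (hL : ∀ d : F, d ≠ 0 → reps a d = L) (hL0 : reps a 0 = L0) :
    Nat.card {y : S // P (tr2 y) (tr2 (comp2 a * y))} = L * (1 + L0) := by
  classical
  have h := card_of_levels ha P L L0 hL hL0
  have hd : Nat.card {bc : F × F // disc a bc.1 bc.2 = 0} = L := by
    rw [card_disc_zero, hL _ ha]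
  have h0 : disc a 0 0 ≠ 0 := by
    intro e; apply ha; simp [disc] at e; linear_combination -e
  have e1 : Nat.card {bc : F × F // P bc.1 bc.2 ∧ disc a bc.1 bc.2 = 0} = L := by
    refine (Nat.card_congr (Equiv.subtypeEquivRight fun bc => ?_)).trans hd
    exact ⟨fun h => h.2, fun h => ⟨(hP _ _).2 (Or.inl h), h⟩⟩
  have e2 : Nat.card {bc : F × F // P bc.1 bc.2} = L + 1 := by
    rw [Nat.card_congr ((Equiv.subtypeEquivRight fun bc : F × F => show P bc.1 bc.2 ↔
      (disc a bc.1 bc.2 = 0 ∨ bc = (0, 0)) by rw [hP]; simp [Prod.ext_iff]).trans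
      (subtypeOrEquiv _ (fun bc : F × F => bc = (0, 0)) ?_)), Nat.card_sum, hd]
    · simp
    · rw [Pi.disjoint_iff]
      intro bc
      simp only [Prop.disjoint_iff]
      rcases eq_or_ne bc (0, 0) with rfl | hbc
      · exact fun h => h0 h.1
      · exact fun h => hbc h.2
  rw [e1, e2] at h
  have : (Nat.card {y : S // P (tr2 y) (tr2 (comp2 a * y))} : ℤ) = ((L * (1 + L0) : ℕ) : ℤ) := by
    rw [h]; push_cast; ring
  exact_mod_cast this

theorem split_or_not (a : F) :
    (∃ t : F, t ^ 2 - a * t + 1 = 0) ∨ ∀ t : F, t ^ 2 - a * t + 1 ≠ 0 := by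
  by_cases h : ∃ t : F, t ^ 2 - a * t + 1 = 0
  · exact Or.inl h
  · push Not at h; exact Or.inr h

end Cfsg.Agent.Lib.PslSolubilizer
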